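import Cfsg.Prelude.Def_CaseTheorems
import Cfsg.Prelude.Def_OddOrderLocal
import Cfsg.Prelude.Def_Transfer
import Cfsg.Agent.FG38.RankTwoClass
import Cfsg.Agent.Lib.PGroup.Commutator
import Cfsg.Agent.Lib.PGroup.Basic

/-!
# Transfer obstructions in `p`-groups of rank two: general lemmas

`Obstruction R y₀` is the data which forces a nontrivial transfer from a Sylow normalizer fixing `y₀`;
`NoWreath p R` is what excludes a quotient `Z_p ≀ Z_p`.
-/

set_option autoImplicit false
set_option linter.style.haveILetI false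

open Subgroup
open scoped commutatorElement

namespace Cfsg.Agent.LocalEvenD.RankTwoShape

/-- An element moved inside `K ⊇ R'` by no automorphism fixing `y₀`. -/
def Obstruction {R : Type*} [Group R] (y₀ : R) : Prop :=
  ∃ K : Subgroup R, commutator R ≤ K ∧ ∃ g, g ∉ K ∧ ∀ α : MulAut R, α y₀ = y₀ → α g * g⁻¹ ∈ K

/-- No quotient of class at least three with an elementary abelian subgroup of index `p` and order at
least `p ^ 3`. -/
def NoWreath (p : ℕ) (R : Type*) [Group R] : Prop :=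
  ¬ ∃ K M : Subgroup R, K.Normal ∧ M.Normal ∧ K ≤ M ∧ M.index = p ∧ (∀ a ∈ M, ∀ b ∈ M, ⁅a, b⁆ ∈ K) ∧
    (∀ a ∈ M, a ^ p ∈ K) ∧ p ^ 3 ≤ K.relIndex M ∧ ∃ a b c : R, ⁅⁅a, b⁆, c⁆ ∉ K

variable {p : ℕ} [hp : Fact p.Prime] {R : Type*} [Group R] [Finite R]

omit hp [Finite R] in
theorem conj_apply_eq (h g : R) : MulAut.conj h g = h * g * h⁻¹ := MulAut.conj_apply h g

omit hp [Finite R] in
/-- A quotient generated by a commutative image and one more element commuting with it. -/
theorem commutator_le_of_sup {C K : Subgroup R} [K.Normal] {g₀ : R} (hsup : C ⊔ zpowers g₀ = ⊤)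
    (hCC : ∀ a ∈ C, ∀ b ∈ C, ⁅a, b⁆ ∈ K) (hCg : ∀ a ∈ C, ⁅g₀, a⁆ ∈ K) : commutator R ≤ K := by
  let π := QuotientGroup.mk' K
  have hcomm : ∀ a b : R, ⁅a, b⁆ ∈ K → π a * π b = π b * π a := fun a b h =>
    commutatorElement_eq_one_iff_mul_comm.1
      (by rw [← map_commutatorElement]; exact (QuotientGroup.eq_one_iff _).2 h)
  have hgen : Subgroup.closure (π '' ((C : Set R) ∪ {g₀})) = ⊤ := by
    rw [← MonoidHom.map_closure, Subgroup.closure_union, Subgroup.closure_eq, ← zpowers_eq_closure, hsup,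
      map_top_of_surjective π (QuotientGroup.mk'_surjective K)]
  have habel : IsMulCommutative ↥(Subgroup.closure (π '' ((C : Set R) ∪ {g₀}))) := by
    refine isMulCommutative_closure ?_
    rintro _ ⟨a, ha, rfl⟩ _ ⟨b, hb, rfl⟩
    rcases ha with ha | ha <;> rcases hb with hb | hb
    · exact hcomm a b (hCC a ha b hb)
    · rw [Set.mem_singleton_iff] at hb; subst hb; exact (hcomm b a (hCg a ha)).symm
    · rw [Set.mem_singleton_iff] at ha; subst ha; exact hcomm a b (hCg b hb)
    · rw [Set.mem_singleton_iff] at ha hb; subst ha hb; rfl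
  rw [hgen] at habel
  rw [_root_.commutator_def, commutator_le]
  intro a _ b _
  rw [← QuotientGroup.eq_one_iff]
  show π ⁅a, b⁆ = 1
  rw [map_commutatorElement, commutatorElement_eq_one_iff_mul_comm]
  exact congrArg Subtype.val (habel.is_comm.comm (⟨π a, mem_top _⟩ : ↥(⊤ : Subgroup (R ⧸ K))) ⟨π b, mem_top _⟩)

omit hp [Finite R] in
/-- A power map which is multiplicative on a characteristic `C` with values in `⟨y₀⟩` gives an
obstruction. -/
theorem obstruction_of_pow {y₀ : R} (hy : ∀ h : R, Commute y₀ h) (C : Subgroup R) [C.Characteristic]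
    (hsup : ∃ g₀, C ⊔ zpowers g₀ = ⊤) (q : ℕ) (hmul : ∀ a ∈ C, ∀ b ∈ C, (a * b) ^ q = a ^ q * b ^ q)
    (hval : ∀ c ∈ C, c ^ q ∈ zpowers y₀) (hne : ∃ c ∈ C, c ^ q ≠ 1) : Obstruction y₀ := by
  let K : Subgroup R :=
    { carrier := {c | c ∈ C ∧ c ^ q = 1}
      one_mem' := ⟨C.one_mem, one_pow q⟩
      mul_mem' := fun {a b} ha hb => ⟨C.mul_mem ha.1 hb.1, by
        rw [hmul a ha.1 b hb.1, ha.2, hb.2, one_mul]⟩
      inv_mem' := fun {a} ha => ⟨C.inv_mem ha.1, by rw [inv_pow, ha.2, inv_one]⟩ }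
  have hinv : ∀ α : MulAut R, α y₀ = y₀ → ∀ c ∈ C, α c * c⁻¹ ∈ K := by
    intro α hα c hc
    have hαc : α c ∈ C := by
      have h : C.map α.toMonoidHom = C := characteristic_iff_map_eq.1 inferInstance α
      rw [← h]
      exact ⟨c, hc, rfl⟩
    refine ⟨C.mul_mem hαc (C.inv_mem hc), ?_⟩
    obtain ⟨i, hi⟩ := mem_zpowers_iff.1 (hval c hc)
    rw [hmul _ hαc _ (C.inv_mem hc), ← map_pow, inv_pow, ← hi, map_zpow, hα, mul_inv_cancel]
  have hconj : ∀ h : R, ∀ c ∈ C, h * c * h⁻¹ * c⁻¹ ∈ K := fun h c hc =>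
    hinv (MulAut.conj h) (by rw [conj_apply_eq, ← (hy h).eq, mul_inv_cancel_right]) c hc
  haveI : K.Normal := ⟨fun c hc h => by
    simpa using K.mul_mem (hconj h c hc.1) hc⟩
  obtain ⟨g₀, hg₀⟩ := hsup
  obtain ⟨c, hc, hc1⟩ := hne
  refine ⟨K, commutator_le_of_sup hg₀ (fun a _ b hb => ?_) (fun a ha => ?_), c, fun h => hc1 h.2,
    fun α hα => hinv α hα c hc⟩
  · rw [commutatorElement_def]; exact hconj a b hb
  · rw [commutatorElement_def]; exact hconj g₀ a ha

omit [Finite R] in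
/-- Two generators bound an elementary abelian quotient by `p ^ 2`. -/
theorem relIndex_le_of_two_gen {K M : Subgroup R} [K.Normal] {c d : R}
    (hM : Subgroup.closure ({c, d} : Set R) = M)
    (hcomm : ∀ a ∈ M, ∀ b ∈ M, ⁅a, b⁆ ∈ K) (hpow : ∀ a ∈ M, a ^ p ∈ K) : K.relIndex M ≤ p ^ 2 := by
  let π := QuotientGroup.mk' K
  have hcd : Commute (π c) (π d) := by
    refine commutatorElement_eq_one_iff_mul_comm.1 ?_
    rw [← map_commutatorElement]
    exact (QuotientGroup.eq_one_iff _).2 (hcomm c (hM ▸ subset_closure (by simp)) d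
      (hM ▸ subset_closure (by simp)))
  have hexp : ∀ a ∈ M, π a ^ p = 1 := fun a ha => by
    rw [← map_pow]; exact (QuotientGroup.eq_one_iff _).2 (hpow a ha)
  have hc : c ∈ M := hM ▸ subset_closure (by simp)
  have hd : d ∈ M := hM ▸ subset_closure (by simp)
  have hrep : ∀ m ∈ M, ∃ i j : ℤ, π m = π c ^ i * π d ^ j := by
    intro m hm
    rw [← hM] at hm
    induction hm using closure_induction with
    | mem x hx =>
      rcases hx with rfl | hx
      · exact ⟨1, 0, by simp⟩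
      · rw [Set.mem_singleton_iff] at hx; subst hx; exact ⟨0, 1, by simp⟩
    | one => exact ⟨0, 0, by simp⟩
    | mul u v _ _ hu hv =>
      obtain ⟨i, j, hu⟩ := hu
      obtain ⟨i', j', hv⟩ := hv
      refine ⟨i + i', j + j', ?_⟩
      rw [map_mul, hu, hv, zpow_add, zpow_add, mul_assoc, ← mul_assoc (π d ^ j),
        ← (hcd.zpow_zpow i' j).eq]
      simp only [mul_assoc]
    | inv u _ hu =>
      obtain ⟨i, j, hu⟩ := hu
      refine ⟨-i, -j, ?_⟩
      rw [map_inv, hu, mul_inv_rev, zpow_neg, zpow_neg, ((hcd.zpow_zpow i j).inv_inv).eq]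
  have hsurj : Function.Surjective (fun ij : ZMod p × ZMod p =>
      (⟨π c ^ ij.1.val * π d ^ ij.2.val, mem_map_of_mem π (M.mul_mem (M.pow_mem hc _) (M.pow_mem hd _)) |> fun h => by
        rwa [map_mul, map_pow, map_pow] at h⟩ : ↥(M.map π))) := by
    rintro ⟨_, m, hm, rfl⟩
    obtain ⟨i, j, hij⟩ := hrep m hm
    refine ⟨((i : ZMod p), (j : ZMod p)), Subtype.ext ?_⟩
    show π c ^ (i : ZMod p).val * π d ^ (j : ZMod p).val = π m
    rw [hij, ← zpow_natCast (π c), ← zpow_natCast (π d),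
      FG38.RankTwo.zpow_congr_of_order (hexp c hc) (j := i) (by
        rw [← ZMod.intCast_zmod_eq_zero_iff_dvd]; simp),
      FG38.RankTwo.zpow_congr_of_order (hexp d hd) (j := j) (by
        rw [← ZMod.intCast_zmod_eq_zero_iff_dvd]; simp)]
  have h := Nat.card_le_card_of_surjective _ hsurj
  rw [Nat.card_prod, Nat.card_zmod, ← pow_two] at h
  have hcard : Nat.card ↥(M.map π) = K.relIndex M := by
    rw [← relIndex_bot_left, ← relIndex_comap, MonoidHom.comap_bot, QuotientGroup.ker_mk']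
  rwa [hcard] at h

theorem noWreath_of_classTwo (h : ∀ a b c : R, ⁅⁅a, b⁆, c⁆ = 1) : NoWreath p R := by
  rintro ⟨K, M, -, -, -, -, -, -, -, a, b, c, hne⟩
  exact hne (h a b c ▸ K.one_mem)

/-- A subgroup of index `p` with two generators whose commutators lie in every nontrivial normal
subgroup excludes a wreath quotient in rank two. -/
theorem noWreath_of_two_gen (hrk : Cfsg.PRankLE p 2 R) (C : Subgroup R) (hidx : C.index = p)
    (hR : IsPGroup p R) {c d : R} (hgen : Subgroup.closure ({c, d} : Set R) = C)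
    (hC : ∀ K : Subgroup R, K.Normal → K ≠ ⊥ → ∀ a ∈ C, ∀ b ∈ C, ⁅a, b⁆ ∈ K) : NoWreath p R := by
  rintro ⟨K, M, hKn, hMn, -, hMidx, hcomm, hpow, hbig, u, v, w, hne⟩
  haveI := hKn
  haveI := hMn
  have hK : K ≠ ⊥ := by
    rintro rfl
    haveI : IsMulCommutative ↥M := ⟨⟨fun a b => Subtype.ext (commutatorElement_eq_one_iff_mul_comm.1
      (mem_bot.1 (hcomm a a.2 b b.2)))⟩⟩
    have h := hrk M inferInstance fun a ha => mem_bot.1 (hpow a ha)
    rw [relIndex_bot_left] at hbig
    exact absurd (hbig.trans h) (Nat.not_le.2 (Nat.pow_lt_pow_right hp.out.one_lt (by norm_num)))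
  haveI hCn : C.Normal := PGroup.normal_of_index_eq_prime hR hidx
  by_cases hMC : M = C
  · subst hMC
    have h := relIndex_le_of_two_gen hgen hcomm hpow
    exact absurd (hbig.trans h) (Nat.not_le.2 (Nat.pow_lt_pow_right hp.out.one_lt (by norm_num)))
  have hsup : M ⊔ C = ⊤ := by
    have hcoM : IsCoatom M := PGroup.isCoatom_of_index_prime (hMidx.symm ▸ hp.out)
    refine hcoM.2 _ (lt_of_le_of_ne le_sup_left fun h => hMC ?_)
    have hle : C ≤ M := h ▸ le_sup_right
    exact (eq_of_le_of_card_ge hle (le_of_eq (Nat.eq_of_mul_eq_mul_right hp.out.pos (by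
      conv_lhs => rw [← hMidx, card_mul_index, ← card_mul_index C, hidx])))).symm
  -- `M ⊓ C` is central modulo `K`, and contains the derived subgroup
  let π := QuotientGroup.mk' K
  have hcen : ∀ i ∈ M ⊓ C, ∀ h : R, Commute (π i) (π h) := by
    intro i hi h
    have hh : h ∈ M ⊔ C := hsup ▸ mem_top h
    obtain ⟨m, hm, e, he, rfl⟩ := mem_sup_of_normal_left.1 hh
    rw [map_mul]
    refine Commute.mul_right ?_ ?_
    · exact commutatorElement_eq_one_iff_mul_comm.1
        (by rw [← map_commutatorElement]; exact (QuotientGroup.eq_one_iff _).2 (hcomm i hi.1 m hm))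
    · exact commutatorElement_eq_one_iff_mul_comm.1
        (by rw [← map_commutatorElement]; exact (QuotientGroup.eq_one_iff _).2 (hC K hKn hK i hi.2 e he))
  have hder : ∀ N : Subgroup R, N.Normal → N.index = p → ⁅u, v⁆ ∈ N := by
    intro N hN hNi
    haveI := hN
    rw [← QuotientGroup.eq_one_iff]
    show QuotientGroup.mk' N ⁅u, v⁆ = 1
    rw [map_commutatorElement, commutatorElement_eq_one_iff_mul_comm]
    exact (PGroup.commute_of_card_prime (by rw [← index_eq_card, hNi]) _ _).eq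
  refine hne ((QuotientGroup.eq_one_iff _).1 ?_)
  show π ⁅⁅u, v⁆, w⁆ = 1
  rw [map_commutatorElement, commutatorElement_eq_one_iff_mul_comm]
  exact (hcen _ ⟨hder M hMn hMidx, hder C hCn hidx⟩ w).eq

end Cfsg.Agent.LocalEvenD.RankTwoShape
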