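import Cfsg.Agent.LocalEvenD.RankTwoShape.Basic
import Mathlib.GroupTheory.RegularWreathProduct

/-!
# The Sylow subgroup of `S_{p²}` is not of class two
-/

set_option autoImplicit false

open Subgroup
open scoped commutatorElement

namespace Cfsg.Agent.LocalEvenD.RankTwoShape

open RegularWreathProduct

theorem exists_comm_ne_one {D Q : Type*} [Group D] [Group Q] {d : D} (hd : d ≠ 1) {q : Q}
    (hq : q ≠ 1) (hq2 : q * q ≠ 1) : ∃ a b c : D ≀ᵣ Q, ⁅⁅a, b⁆, c⁆ ≠ 1 := by
  classical
  refine ⟨⟨fun x => if x = 1 then d else 1, 1⟩, inl q, inl q, fun h => hd ?_⟩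
  have h1 := congrFun (congrArg RegularWreathProduct.left h) (1 : Q)
  have hq3 : q⁻¹ * q⁻¹ ≠ 1 := fun h => hq2 (inv_eq_one.1 (by rw [mul_inv_rev]; exact h))
  simpa [commutatorElement_def, hq, hq3, inv_eq_one] using h1

theorem false_of_surjective_prod {p : ℕ} [Fact p.Prime] (hp2 : p ≠ 2) {R D G : Type*} [Group R] [Finite R]
    [Group D] [Finite D] [Group G] [Finite G] (hnw : NoWreath p R) (hD : Nat.card D = p)
    (hG : Nat.card G = p) (φ : R →* D ≀ᵣ G) (hφ : Function.Surjective φ) : False := by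
  classical
  have hp : p.Prime := Fact.out
  let B : Subgroup (D ≀ᵣ G) := (rightHom : D ≀ᵣ G →* G).ker
  have hBmem : ∀ a, a ∈ B ↔ a.right = 1 := fun a => MonoidHom.mem_ker
  have hcomm : ∀ d d' : D, d * d' = d' * d := fun d d' => (PGroup.commute_of_card_prime hD d d').eq
  have hexp : ∀ d : D, d ^ p = 1 := fun d => hD ▸ pow_card_eq_one'
  have hright : Function.Surjective (rightHom : D ≀ᵣ G →* G) := fun q => ⟨inl q, fun_id q⟩
  refine hnw ⟨φ.ker, B.comap φ, inferInstance, inferInstance, fun a ha => ?_, ?_, ?_, ?_, ?_, ?_⟩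
  · rw [mem_comap, MonoidHom.mem_ker.1 ha]; exact B.one_mem
  · rw [index_comap_of_surjective _ hφ, index_ker, MonoidHom.range_eq_top.2 hright, card_top, hG]
  · intro a ha b hb
    rw [MonoidHom.mem_ker, map_commutatorElement, commutatorElement_eq_one_iff_mul_comm]
    refine RegularWreathProduct.ext (funext fun x => ?_) ?_
    · simp [(hBmem _).1 (mem_comap.1 ha), (hBmem _).1 (mem_comap.1 hb), hcomm]
    · simp [(hBmem _).1 (mem_comap.1 ha), (hBmem _).1 (mem_comap.1 hb)]
  · intro a ha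
    rw [MonoidHom.mem_ker, map_pow]
    have hB : ∀ b : D ≀ᵣ G, b.right = 1 → ∀ n : ℕ, (b ^ n).left = b.left ^ n ∧ (b ^ n).right = 1 := by
      intro b hb n
      induction n with
      | zero => simp
      | succ n ih =>
        refine ⟨funext fun x => ?_, ?_⟩
        · rw [pow_succ, mul_left, ih.2, ih.1, pow_succ]; simp
        · rw [pow_succ, mul_right, ih.2, hb, one_mul]
    obtain ⟨h1, h2⟩ := hB (φ a) ((hBmem _).1 (mem_comap.1 ha)) p
    refine RegularWreathProduct.ext (funext fun x => ?_) h2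
    rw [h1, Pi.pow_apply, hexp]; rfl
  · have h1 : φ.ker.relIndex (B.comap φ) = Nat.card ↥B := by
      rw [← MonoidHom.comap_bot, relIndex_comap, map_comap_eq_self_of_surjective hφ, relIndex_bot_left]
    have h2 := B.card_mul_index
    rw [index_ker, MonoidHom.range_eq_top.2 hright, card_top, RegularWreathProduct.card, hD, hG] at h2
    rw [h1, Nat.eq_of_mul_eq_mul_right hp.pos h2]
    refine Nat.pow_le_pow_right hp.pos ?_
    have := hp.two_le
    omega
  · obtain ⟨d, hd⟩ : ∃ d : D, d ≠ 1 := by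
      haveI : Nontrivial D := Finite.one_lt_card_iff_nontrivial.1 (hD ▸ hp.one_lt)
      exact exists_ne 1
    obtain ⟨q, hq⟩ : ∃ q : G, q ≠ 1 := by
      haveI : Nontrivial G := Finite.one_lt_card_iff_nontrivial.1 (hG ▸ hp.one_lt)
      exact exists_ne 1
    have hq2 : q * q ≠ 1 := fun h => hp2 ((Nat.prime_dvd_prime_iff_eq hp Nat.prime_two).1
      (orderOf_eq_prime (hG ▸ pow_card_eq_one') hq ▸ orderOf_dvd_of_pow_eq_one (by rw [pow_two, h])))
    obtain ⟨a, b, c, hne⟩ := exists_comm_ne_one (D := D) (Q := G) hd hq hq2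
    obtain ⟨a, rfl⟩ := hφ a
    obtain ⟨b, rfl⟩ := hφ b
    obtain ⟨c, rfl⟩ := hφ c
    exact ⟨a, b, c, fun h => hne (by rw [← map_commutatorElement, ← map_commutatorElement]; exact h)⟩

theorem false_of_surjective_wreath {p : ℕ} [Fact p.Prime] (hp2 : p ≠ 2) {R : Type*} [Group R] [Finite R]
    (hnw : NoWreath p R) (P : Sylow p (Equiv.Perm (Fin (p ^ 2))))
    (f : R →* ↥(P : Subgroup (Equiv.Perm (Fin (p ^ 2))))) (hf : Function.Surjective f) : False := by
  have hG : Nat.card (Multiplicative (ZMod p)) = p := by simp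
  have hD : Nat.card (IteratedWreathProduct (Multiplicative (ZMod p)) 1) = p := by
    rw [IteratedWreathProduct.card, hG]; simp
  let e := Sylow.mulEquivIteratedWreathProduct p 2 (Fin (p ^ 2)) (by simp) (Multiplicative (ZMod p)) hG P
  let e₀ : IteratedWreathProduct (Multiplicative (ZMod p)) 2 ≃*
      (IteratedWreathProduct (Multiplicative (ZMod p)) 1 ≀ᵣ Multiplicative (ZMod p)) :=
    { toFun := id, invFun := id, left_inv := fun _ => rfl, right_inv := fun _ => rfl,
      map_mul' := fun _ _ => rfl }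
  exact false_of_surjective_prod hp2 hnw hD hG ((e.trans e₀).toMonoidHom.comp f)
    ((e.trans e₀).surjective.comp hf)

end Cfsg.Agent.LocalEvenD.RankTwoShape
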