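import Cfsg.Agent.LocalEvenD.RankTwoShape.Pure
import Cfsg.Agent.LocalEvenD.RankTwoShape.Wreath
import Cfsg.Agent.LocalEvenD.RankTwo
import Cfsg.Agent.S1241
import Cfsg.Agent.S2807

/-!
# The Sylow subgroups through an isolated element in a perfect group of `p`-rank two
-/

set_option autoImplicit false
set_option linter.style.haveILetI false

open Subgroup
open scoped commutatorElement

namespace Cfsg.Agent.LocalEvenD.RankTwoShape

open Cfsg.Agent.LAE65

variable {p : ℕ} [hp : Fact p.Prime]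

omit hp in
theorem prankLE_subgroup {G : Type*} [Group G] (h : Cfsg.PRankLE p 2 G) (H : Subgroup G) :
    Cfsg.PRankLE p 2 ↥H := by
  intro A hA hexp
  have h' := h (A.map H.subtype) inferInstance (by
    rintro _ ⟨a, ha, rfl⟩
    rw [← map_pow, hexp a ha, map_one])
  rwa [card_map_of_injective H.subtype_injective] at h'

theorem sylow_shape {X : Type*} [Group X] [Finite X] (hp2 : p ≠ 2) (hperf : commutator X = ⊤)
    (hrank : Cfsg.PRankLE p 2 X) {y : X} (hy : orderOf y = p) (hiso : Cfsg.IsIsolated y) (P : Sylow p X)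
    (hyP : y ∈ (P : Subgroup X)) : Shape p ↥(P : Subgroup X) := by
  classical
  set R := (P : Subgroup X) with hRdef
  have hR : IsPGroup p ↥R := P.isPGroup'
  have hcen : ∀ h : ↥R, Commute (⟨y, hyP⟩ : ↥R) h := fun h => Subtype.ext (by
    have := isolated_commute_of_mem hiso hR hyP h.2
    exact (mul_inv_eq_iff_eq_mul.1 this).symm)
  have hidx : Nat.Coprime p R.index :=
    (Fact.out : p.Prime).coprime_iff_not_dvd.2 (Sylow.not_dvd_index P)
  have hyR : (⟨y, hyP⟩ : ↥R) ∈ commutator ↥R := by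
    by_contra hn
    have hK : ((commutator ↥R).map R.subtype).subgroupOf R = commutator ↥R :=
      comap_map_eq_self_of_injective R.subtype_injective _
    refine S1241.result R ((commutator ↥R).map R.subtype) (map_subtype_le _) (hK.symm ▸ inferInstance)
      ?_ hidx y hyP ?_ ⟨1, by rw [pow_one]; exact hy⟩ ?_ (hperf ▸ mem_top y)
    · intro u hu v hv
      exact ⟨⁅(⟨u, hu⟩ : ↥R), ⟨v, hv⟩⁆, commutator_mem_commutator (mem_top _) (mem_top _), rfl⟩
    · rintro ⟨v, hv, hvy⟩
      exact hn (by rwa [show v = (⟨y, hyP⟩ : ↥R) from Subtype.ext hvy] at hv)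
    · intro m a ha
      suffices h : a * y ^ m * a⁻¹ = y ^ m by rw [h, mul_inv_cancel]; exact one_mem _
      by_cases hm : (p : ℤ) ∣ m
      · have h1 : y ^ m = 1 := orderOf_dvd_iff_zpow_eq_one.1 (hy.symm ▸ hm)
        rw [h1, mul_one, mul_inv_cancel]
      obtain ⟨u, v, huv⟩ : IsCoprime (p : ℤ) m :=
        (Nat.prime_iff_prime_int.mp hp.out).coprime_iff_not_dvd.mpr hm
      have h2 : y = (y ^ m) ^ v := by
        calc y = y ^ (u * (p : ℤ) + v * m) := by rw [huv, zpow_one]
          _ = _ := by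
            rw [zpow_add, mul_comm u, zpow_mul, zpow_natCast, ← hy, pow_orderOf_eq_one, one_zpow, one_mul,
              mul_comm, zpow_mul]
      have h3 : a * y * a⁻¹ ∈ R := by
        rw [h2, ← conj_zpow]
        exact zpow_mem ha v
      rw [← conj_zpow, isolated_eq_of_mem hiso hR hyP h3]
  have hyo : orderOf (⟨y, hyP⟩ : ↥R) = p := (Subgroup.orderOf_mk _ _).trans hy
  rcases shape_or_obstruction hp2 hR (prankLE_subgroup hrank R) hcen hyo hyR with h | ⟨⟨K, hK, g, hg, hα⟩, hnw⟩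
  · exact h
  exfalso
  set N := Subgroup.normalizer (R : Set X) with hN
  have hRN : R ≤ N := le_normalizer
  have hgN : (g : X) ∉ ⁅N, N⁆ := by
    intro hmem
    rw [← map_subtype_commutator] at hmem
    obtain ⟨g', hg', hgg⟩ := hmem
    change (g' : X) = (g : X) at hgg
    have hg'R : g' ∈ R.subgroupOf N := mem_subgroupOf.2 (hgg.symm ▸ g.2)
    haveI hKn : K.Normal := ⟨fun k hk h => by
      have : h * k * h⁻¹ = ⁅h, k⁆ * k := by rw [commutatorElement_def]; group
      rw [this]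
      exact K.mul_mem (hK (commutator_mem_commutator (mem_top h) (mem_top k))) hk⟩
    have hsub : ∀ u : ↥N, u ∈ (K.map R.subtype).subgroupOf N ↔
        ∃ h : (u : X) ∈ R, (⟨(u : X), h⟩ : ↥R) ∈ K := by
      intro u
      rw [mem_subgroupOf]
      constructor
      · rintro ⟨k, hk, he⟩
        change (k : X) = (u : X) at he
        have huR : (u : X) ∈ R := he ▸ k.2
        refine ⟨huR, ?_⟩
        rwa [show (⟨(u : X), huR⟩ : ↥R) = k from Subtype.ext he.symm]
      · rintro ⟨h, hk⟩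
        exact ⟨_, hk, rfl⟩
    refine S1241.result (p := p) (R.subgroupOf N) ((K.map R.subtype).subgroupOf N)
      (fun u hu => mem_subgroupOf.2 ((hsub u).1 hu).1) ?_ ?_ ?_ g' hg'R ?_ ?_ ?_ hg'
    · refine ⟨fun u hu h => ?_⟩
      rw [mem_subgroupOf] at hu ⊢
      obtain ⟨hu1, hu2⟩ := (hsub _).1 hu
      refine (hsub _).2 ⟨R.mul_mem (R.mul_mem h.2 hu1) (R.inv_mem h.2), ?_⟩
      exact hKn.conj_mem _ hu2 ⟨((h : ↥N) : X), h.2⟩
    · intro u hu v hv
      refine (hsub _).2 ⟨R.mul_mem (R.mul_mem (R.mul_mem hu hv) (R.inv_mem hu)) (R.inv_mem hv), ?_⟩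
      exact hK (commutator_mem_commutator (mem_top (⟨(u : X), hu⟩ : ↥R)) (mem_top ⟨(v : X), hv⟩))
    · exact (Fact.out : p.Prime).coprime_iff_not_dvd.2 (Sylow.not_dvd_index (P.subtype hRN))
    · intro h
      obtain ⟨h1, h2⟩ := (hsub _).1 h
      exact hg (by rwa [show (⟨(g' : X), h1⟩ : ↥R) = g from Subtype.ext hgg] at h2)
    · obtain ⟨k, hk⟩ := IsPGroup.iff_orderOf.1 hR g
      exact ⟨k, by rw [← Subgroup.orderOf_coe, show (g' : X) = (g : X) from hgg, Subgroup.orderOf_coe, hk]⟩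
    · intro m a ha
      let α : MulAut ↥R :=
        { toFun := fun r => ⟨(a : X) * r * (a : X)⁻¹, (mem_normalizer_iff.1 a.2 r).1 r.2⟩
          invFun := fun r => ⟨(a : X)⁻¹ * r * (a : X), by
            have := (mem_normalizer_iff.1 (N.inv_mem a.2) r).1 r.2
            simpa using this⟩
          left_inv := fun r => Subtype.ext (by simp [mul_assoc])
          right_inv := fun r => Subtype.ext (by simp [mul_assoc])
          map_mul' := fun r s => Subtype.ext (by simp [mul_assoc]) }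
      have hαy : α ⟨y, hyP⟩ = ⟨y, hyP⟩ := Subtype.ext (by
        show (a : X) * y * (a : X)⁻¹ = y
        exact mul_inv_eq_iff_eq_mul.2
          (mem_centralizer_singleton_iff.1 (isolated_normalizer_le hiso hR hyP a.2)))
      refine (hsub _).2 ⟨?_, ?_⟩
      · exact mem_subgroupOf.1 ((R.subgroupOf N).mul_mem ha
          ((R.subgroupOf N).inv_mem ((R.subgroupOf N).zpow_mem hg'R m)))
      have hπ : (QuotientGroup.mk' K) (α (g ^ m)) = (QuotientGroup.mk' K) (g ^ m) := by
        have h1 : (QuotientGroup.mk' K) (α g) = (QuotientGroup.mk' K) g :=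
          mul_inv_eq_one.1 (by rw [← map_inv, ← map_mul]; exact (QuotientGroup.eq_one_iff _).2 (hα α hαy))
        rw [map_zpow, map_zpow, map_zpow, h1]
      have hmem : α (g ^ m) * (g ^ m)⁻¹ ∈ K := by
        rw [← QuotientGroup.eq_one_iff]
        show QuotientGroup.mk' K _ = 1
        rw [map_mul, map_inv, hπ, mul_inv_cancel]
      convert hmem using 1
      apply Subtype.ext
      show ((a * g' ^ m * a⁻¹ * (g' ^ m)⁻¹ : ↥N) : X) =
        (a : X) * ((g ^ m : ↥R) : X) * (a : X)⁻¹ * (((g ^ m)⁻¹ : ↥R) : X)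
      push_cast
      rw [hgg]
  have hne : R ⊓ commutator X ≠ R ⊓ ⁅N, N⁆ := fun h =>
    hgN (h.le ⟨g.2, hperf ▸ mem_top _⟩).2
  obtain ⟨W, f, hf⟩ := S2807.result P hne
  exact false_of_surjective_wreath hp2 hnw W f hf

theorem cyclic_of_no_conj {G : Type*} [Group G] [Finite G] (hp2 : p ≠ 2) (hrank : Cfsg.PRankLE p 2 G)
    {x : G} (hx : orderOf x = p) (hiso : Cfsg.IsIsolated x) (Q : Subgroup G) (hQ : IsPGroup p ↥Q)
    (hno : ∀ g : G, g * x * g⁻¹ ∉ Q) : IsCyclic ↥Q := by
  by_contra hnc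
  obtain ⟨B, -, hBc, hBp, hBcard⟩ := PGroup.exists_normal_elementary_sq hQ hp2 hnc
  obtain ⟨T, hT⟩ := hQ.exists_le_sylow
  obtain ⟨U, hU⟩ := (isPGroup_zpowers (p := p) (x := x) ⟨1, by rw [hx, pow_one]⟩).exists_le_sylow
  obtain ⟨a, ha⟩ := MulAction.exists_smul_eq G U T
  have haT : a * x * a⁻¹ ∈ (T : Subgroup G) := by
    rw [← ha, Sylow.coe_subgroup_smul]
    exact smul_mem_pointwise_smul x (MulAut.conj a) _ (hU (mem_zpowers x))
  have hiso' := rk_isolated_conj hiso a
  have hcomm : ∀ r ∈ Q, Commute (a * x * a⁻¹) r := fun r hr => by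
    have := isolated_commute_of_mem hiso' T.isPGroup' haT (hT hr)
    exact (mul_inv_eq_iff_eq_mul.1 this).symm
  haveI : Nontrivial ↥B := Finite.one_lt_card_iff_nontrivial.1 (by
    rw [hBcard]; exact Nat.one_lt_pow (by norm_num) hp.out.one_lt)
  obtain ⟨⟨u, hu⟩, hu1⟩ := exists_ne (1 : ↥B)
  have hu1' : u ≠ 1 := fun h => hu1 (Subtype.ext h)
  obtain ⟨v, hv, hvu⟩ : ∃ v ∈ B, v ∉ zpowers u := by
    by_contra hall
    push Not at hall
    have h := card_le_of_le (show B ≤ zpowers u from hall)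
    rw [hBcard, Nat.card_zpowers, orderOf_eq_prime (hBp u hu) hu1'] at h
    exact absurd h (Nat.not_le.2 (by nlinarith [hp.out.two_le]))
  have huv : Commute u v := congrArg Subtype.val (hBc.is_comm.comm (⟨u, hu⟩ : B) ⟨v, hv⟩)
  have hmem : a * x * a⁻¹ ∈ zpowers (u : G) ⊔ zpowers (v : G) := by
    refine rk_mem_sup hrank ?_ ?_ ?_ (congrArg Subtype.val huv) (hcomm u u.2).symm (hcomm v v.2).symm ?_ ?_
    · rw [← SubmonoidClass.coe_pow, hBp u hu]; rfl
    · rw [← SubmonoidClass.coe_pow, hBp v hv]; rfl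
    · rw [conj_pow, ← hx, pow_orderOf_eq_one, mul_one, mul_inv_cancel]
    · exact fun h => hu1' (Subtype.ext h)
    · intro h
      obtain ⟨i, hi⟩ := mem_zpowers_iff.1 h
      exact hvu (mem_zpowers_iff.2 ⟨i, Subtype.ext (by simpa using hi)⟩)
  exact hno a (sup_le (zpowers_le.2 u.2) (zpowers_le.2 v.2) hmem)

end Cfsg.Agent.LocalEvenD.RankTwoShape
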