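import Cfsg.Agent.LocalEvenD.RankTwoShape.Metacyclic
import Cfsg.Agent.LocalEvenD.RankTwo
import Cfsg.Agent.Lib.PGroup.NormalRankTwo
import Cfsg.Agent.PLocalB.MaximalClassNormal

/-!
# Maximal class groups of even exponent and rank two carry a transfer obstruction

`B` is the unique normal subgroup of order `p ^ 2`, `C` its centralizer; `C` is `p`-central and the top
power map of `C` has image `⟨y₀⟩` because `log_p |C|` is odd.
-/

set_option autoImplicit false
set_option linter.style.haveILetI false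

open Subgroup
open scoped commutatorElement

namespace Cfsg.Agent.LocalEvenD.RankTwoShape

variable {p : ℕ} [hp : Fact p.Prime] {R : Type*} [Group R] [Finite R]

theorem maxClass (hp2 : p ≠ 2) (hrk : Cfsg.PRankLE p 2 R) {y₀ : R} (hy : ∀ h : R, Commute y₀ h)
    (hy0 : orderOf y₀ = p) (hyR : y₀ ∈ commutator R) {n : ℕ} (hcard : Nat.card R = p ^ n) (hn : 4 ≤ n)
    (heven : Even n) (hlcs : (⊤ : Subgroup R).lowerCentralSeries (n - 2) ≠ ⊥) :
    Obstruction y₀ ∧ NoWreath p R := by
  classical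
  have hR : IsPGroup p R := IsPGroup.of_card hcard
  haveI : Group.IsNilpotent R := hR.isNilpotent
  have hpz : Prime (p : ℤ) := Nat.prime_iff_prime_int.mp hp.out
  have hy1 : y₀ ≠ 1 := fun h => hp.out.ne_one (by rw [← hy0, h, orderOf_one])
  have hyp : y₀ ^ p = 1 := hy0 ▸ pow_orderOf_eq_one y₀
  -- the class is `n - 1`
  have hlast : (⊤ : Subgroup R).lowerCentralSeries (n - 1) = ⊥ := by
    by_contra hne
    have h := PLocalB.index_lowerCentralSeries_ge hR (n - 1) (by omega) hne
    rw [show n - 1 + 1 = n by omega, ← hcard] at h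
    have h2 := ((⊤ : Subgroup R).lowerCentralSeries (n - 1)).card_mul_index
    refine hne (card_eq_one.1 (le_antisymm (Nat.le_of_mul_le_mul_right ?_ (Nat.card_pos (α := R)))
      Nat.card_pos))
    rw [one_mul]
    exact (Nat.mul_le_mul_left _ h).trans h2.le
  have hcl : Group.nilpotencyClass R = n - 1 := by
    refine le_antisymm (Subgroup.lowerCentralSeries_eq_bot_iff_nilpotencyClass_le.1 hlast) ?_
    by_contra h
    exact hlcs (Subgroup.lowerCentralSeries_eq_bot_iff_nilpotencyClass_le.2 (by omega))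
  have huniq : ∀ (L : Subgroup R) [L.Normal], Nat.card L = p ^ 2 →
      L = (⊤ : Subgroup R).lowerCentralSeries (n - 3) := by
    intro L _ hL
    have h := (PLocalB.maximal_class_main n hcard hcl (by omega)).1 L (n - 2) (by omega) (by
      have h := L.card_mul_index
      rw [hL, hcard, show n = 2 + (n - 2) by omega, pow_add] at h
      exact Nat.eq_of_mul_eq_mul_left (pow_pos hp.out.pos 2) h)
    rwa [show n - 2 - 1 = n - 3 by omega] at h
  have hnc : ¬ IsCyclic R := by
    intro hc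
    refine hy1 (mem_bot.1 ?_)
    have hb : commutator R = ⊥ := by
      rw [_root_.commutator_def, eq_bot_iff, commutator_le]
      intro u _ v _
      rw [mem_bot, commutatorElement_eq_one_iff_mul_comm]
      exact PGroup.mul_comm_of_cyclic u v
    exact hb ▸ hyR
  obtain ⟨B, hBn, hBc, hBp, hBcard⟩ := PGroup.exists_normal_elementary_sq hR hp2 hnc
  haveI := hBn
  have hBlcs := huniq B hBcard
  haveI hBchar : B.Characteristic := hBlcs ▸ inferInstance
  have hBcomm : ∀ u ∈ B, ∀ v ∈ B, Commute u v := fun u hu v hv =>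
    congrArg Subtype.val (hBc.is_comm.comm (⟨u, hu⟩ : B) ⟨v, hv⟩)
  have hBP : ∀ u ∈ B, ∀ h : R, ⁅h, u⁆ ∈ (⊤ : Subgroup R).lowerCentralSeries (n - 2) := by
    intro u hu h
    rw [show n - 2 = n - 3 + 1 by omega, Subgroup.lowerCentralSeries_succ, commutator_comm]
    exact commutator_mem_commutator (mem_top h) (hBlcs ▸ hu)
  have hLc : ∀ u ∈ (⊤ : Subgroup R).lowerCentralSeries (n - 2), ∀ h : R, Commute u h := by
    intro u hu h
    refine commutatorElement_eq_one_iff_mul_comm.1 (mem_bot.1 (hlast ▸ ?_))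
    rw [show n - 1 = n - 2 + 1 by omega, Subgroup.lowerCentralSeries_succ]
    exact commutator_mem_commutator hu (mem_top h)
  -- `y₀ ∈ B`, and `B` is not central
  have hyB : y₀ ∈ B := by
    set A := Subgroup.closure (insert y₀ (B : Set R)) with hA
    have hAc : IsMulCommutative ↥A := by
      refine Subgroup.isMulCommutative_closure fun u hu v hv => ?_
      rcases hu with rfl | hu <;> rcases hv with rfl | hv
      · rfl
      · exact (hy v).eq
      · exact (hy u).eq.symm
      · exact (hBcomm u hu v hv).eq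
    have hexp : ∀ u ∈ A, u ^ p = 1 := by
      intro u hu
      induction hu using closure_induction with
      | mem z hz => rcases hz with rfl | hz; exacts [hyp, hBp z hz]
      | one => exact one_pow p
      | mul u v hu hv ih1 ih2 =>
        have h : Commute u v := congrArg Subtype.val (hAc.is_comm.comm (⟨u, hu⟩ : A) ⟨v, hv⟩)
        rw [h.mul_pow, ih1, ih2, one_mul]
      | inv u _ ih => rw [inv_pow, ih, inv_one]
    have h := eq_of_le_of_card_ge (fun u hu => subset_closure (Set.mem_insert_of_mem _ hu) : B ≤ A)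
      (hBcard ▸ hrk A hAc hexp)
    rw [h]
    exact subset_closure (Set.mem_insert _ _)
  obtain ⟨b, hb, g, hgb⟩ : ∃ b ∈ B, ∃ g, ⁅g, b⁆ ≠ 1 := by
    by_contra hno
    push Not at hno
    refine hlcs ?_
    rw [show n - 2 = n - 3 + 1 by omega, Subgroup.lowerCentralSeries_succ, ← hBlcs, eq_bot_iff,
      commutator_comm, commutator_le]
    intro h _ u hu
    exact mem_bot.2 (hno u hu h)
  have hbp : b ^ p = 1 := hBp b hb
  have hby : b ∉ zpowers y₀ := by
    intro h
    obtain ⟨i, rfl⟩ := mem_zpowers_iff.1 h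
    exact hgb (commutatorElement_eq_one_iff_mul_comm.2 ((hy g).zpow_left i).eq.symm)
  have hrep : ∀ u : R, u ^ p = 1 → Commute u b → ∃ i j : ℤ, u = b ^ i * y₀ ^ j := by
    intro u hu hub
    obtain ⟨i, j, hij⟩ := rk_exists_zpow (hy b) (rk_mem_sup hrk hyp hbp hu (hy b) (hy u) hub.symm hy1 hby)
    exact ⟨j, i, by rw [hij, ((hy b).zpow_zpow i j).eq]⟩
  -- central elements of order `p`
  have hcen : ∀ u : R, u ^ p = 1 → (∀ h, Commute u h) → u ∈ zpowers y₀ := by
    intro u hu huc
    obtain ⟨i, j, rfl⟩ := hrep u hu (huc b)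
    by_cases hpi : (p : ℤ) ∣ i
    · rw [FG38.RankTwo.zpow_congr_of_order hbp (j := 0) (by simpa using hpi), zpow_zero, one_mul]
      exact zpow_mem (mem_zpowers y₀) j
    exfalso
    obtain ⟨r, v, hrv⟩ : IsCoprime (p : ℤ) i := hpz.coprime_iff_not_dvd.mpr hpi
    refine hgb (commutatorElement_eq_one_iff_mul_comm.2 ?_)
    have h1 : Commute (b ^ i) g := by
      have h2 := (huc g).mul_left (((hy g).zpow_left j).inv_left)
      rwa [mul_inv_cancel_right] at h2
    have h3 : b = (b ^ i) ^ v := by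
      calc b = b ^ (r * (p : ℤ) + v * i) := by rw [hrv, zpow_one]
        _ = _ := by rw [zpow_add, mul_comm r, zpow_mul, zpow_natCast, hbp, one_zpow, one_mul, mul_comm,
          zpow_mul]
    rw [h3]
    exact (h1.zpow_left v).eq.symm
  have hval : ∀ h : R, ⁅h, b⁆ ∈ zpowers y₀ := fun h =>
    hcen _ (hBp _ (by
      rw [commutatorElement_def]; exact B.mul_mem (hBn.conj_mem b hb h) (B.inv_mem hb)))
      (hLc _ (hBP b hb h))
  -- `C = C_R(B)`
  let ψ : R →* R := MonoidHom.mk' (fun h => ⁅h, b⁆) fun u v => by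
    rw [commutatorElement_mul_left_eq_conj_mul, ((hLc _ (hBP b hb v)) u).eq.symm, mul_inv_cancel_right,
      ((hLc _ (hBP b hb v)) _).eq.symm]
  set C := centralizer (B : Set R) with hC
  have hBrep : ∀ u ∈ B, ∃ i j : ℤ, u = b ^ i * y₀ ^ j := fun u hu =>
    hrep u (hBp u hu) (hBcomm u hu b hb)
  have hmemC : ∀ h : R, Commute h b → h ∈ C := by
    intro h hh
    rw [hC, mem_centralizer_iff]
    intro u hu
    obtain ⟨i, j, rfl⟩ := hBrep u hu
    exact (((hh.zpow_right i).mul_right ((hy h).symm.zpow_right j))).eq.symm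
  have hker : ψ.ker = C := by
    ext h
    rw [MonoidHom.mem_ker]
    show ⁅h, b⁆ = 1 ↔ _
    rw [commutatorElement_eq_one_iff_mul_comm]
    exact ⟨fun e => hmemC h e, fun e => (mem_centralizer_iff.1 e b hb).symm⟩
  have hgC : g ∉ C := fun h => hgb (MonoidHom.mem_ker.1 (hker.ge h))
  have hidx : C.index = p := by
    have hd : C.index ∣ p := by
      rw [← hker, index_ker, ← hy0, ← Nat.card_zpowers]
      refine card_dvd_of_le ?_
      rintro _ ⟨h, rfl⟩
      exact hval h
    exact (hp.out.eq_one_or_self_of_dvd _ hd).resolve_left fun h => hgC ((index_eq_one.1 h) ▸ mem_top g)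
  haveI hCn : C.Normal := inferInstance
  have hsup : C ⊔ zpowers g = ⊤ := by
    refine (PGroup.isCoatom_of_index_prime (hidx.symm ▸ hp.out)).2 _ (lt_of_le_of_ne le_sup_left ?_)
    exact fun h => hgC (h ▸ mem_sup_right (mem_zpowers g))
  obtain ⟨k, hk⟩ := mem_zpowers_iff.1 (hval g)
  have hkp : ¬ (p : ℤ) ∣ k := fun hd => hgb (by
    rw [← hk, ← orderOf_dvd_iff_zpow_eq_one, hy0]; exact hd)
  have hF : FG38.RankTwo.Frame p C b y₀ g := by
    refine ⟨hR, hCn, hy, hy0, hbp, hby, hmemC b (Commute.refl b), hmemC y₀ (hy b), ?_, ?_, ⟨k, hkp, ?_⟩,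
      ?_, hgC⟩
    · intro u hu hup
      exact hrep u hup (mem_centralizer_iff.1 hu b hb).symm
    · intro u hu
      exact (mem_centralizer_iff.1 hu b hb).symm
    · rw [((hy b).zpow_left k).eq.symm, hk, commutatorElement_def, inv_mul_cancel_right]
    · intro h
      obtain ⟨c, hc, v, hv, rfl⟩ := mem_sup_of_normal_left.1 (hsup.ge (mem_top h))
      obtain ⟨i, rfl⟩ := (mem_zpowers_iff_mem_range_orderOf.1 hv) |> Finset.mem_image.1 |>
        fun ⟨i, _, hi⟩ => (⟨i, hi⟩ : ∃ i : ℕ, g ^ i = v)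
      exact ⟨i, c, hc, rfl⟩
  have hCcard : Nat.card C = p ^ (n - 1) := by
    have h := C.card_mul_index
    rw [hidx, hcard, show p ^ n = p ^ (n - 1) * p by rw [← pow_succ]; congr 1; omega] at h
    exact Nat.eq_of_mul_eq_mul_right hp.out.pos h
  have hex : ∃ M, ∀ c ∈ C, c ^ p ^ (M + 1) = 1 := by
    refine ⟨n, fun c hc => ?_⟩
    exact orderOf_dvd_iff_pow_eq_one.mp ((Subgroup.orderOf_dvd_natCard C hc).trans
      (hCcard ▸ pow_dvd_pow p (by omega)))
  set M := Nat.find hex with hM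
  have hMspec := Nat.find_spec hex
  -- the top level of `C` has rank one
  have htop : ∀ c ∈ C, c ^ p ^ M ∈ zpowers y₀ := by
    by_contra hno
    push Not at hno
    obtain ⟨c, hc, hne⟩ := hno
    have h1 := hMspec c hc
    set d := FG38.RankTwo.dl g c with hd
    have hdC : d ∈ C := hF.dl_mem hc
    have hpow := hF.dl_pow hp2 hc (k := M) (hF.comm_kill hp2 (Subtype.ext h1) _)
    obtain ⟨i, j, hij⟩ := hF.omega (c ^ p ^ M) (pow_mem hc _) (by rw [← pow_mul, ← pow_succ]; exact h1)
    obtain ⟨k', hk', hky⟩ := hF.conj_y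
    have hdM : d ^ p ^ M = y₀ ^ (k' * i) := by
      rw [hd, hpow, FG38.RankTwo.dl, hij, hF.conj_omega hky, inv_mul_cancel_left]
    have hd1 : d ^ p ^ M ≠ 1 := by
      rw [hdM]
      intro h0
      rcases hpz.dvd_or_dvd (hF.zpow_e_eq_one.mp h0) with hd' | hd'
      · exact hk' hd'
      · refine hne ?_
        rw [hij, FG38.RankTwo.zpow_congr_of_order hbp (j := 0) (by simpa using hd'), zpow_zero, one_mul]
        exact zpow_mem (mem_zpowers y₀) _
    have hco : orderOf c = p ^ (M + 1) := orderOf_eq_prime_pow (fun h => hne (h ▸ one_mem _)) h1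
    have hdo : orderOf d = p ^ (M + 1) := orderOf_eq_prime_pow hd1 (hMspec d hdC)
    have hroot : ∀ w : R, orderOf w = p ^ (M + 1) → ∀ u ∈ zpowers w, u ^ p = 1 →
        ∃ a : ℤ, u = (w ^ p ^ M) ^ a := by
      intro w hw u hu hup
      obtain ⟨a, rfl⟩ := mem_zpowers_iff.1 hu
      rw [← zpow_natCast, ← zpow_mul, ← orderOf_dvd_iff_zpow_eq_one, hw, Nat.cast_pow, pow_succ,
        mul_dvd_mul_iff_right (by exact_mod_cast hp.out.ne_zero)] at hup
      obtain ⟨a', rfl⟩ := hup
      exact ⟨a', by rw [← zpow_natCast w (p ^ M), ← zpow_mul, Nat.cast_pow]⟩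
    have hdis : Disjoint (zpowers c) (zpowers d) := by
      rw [disjoint_iff]
      by_contra hbot
      obtain ⟨u, hu, hu1, hup⟩ := PGroup.exists_mem_pow_eq_one hR hbot
      obtain ⟨a, ha⟩ := hroot c hco u hu.1 hup
      obtain ⟨a', ha'⟩ := hroot d hdo u hu.2 hup
      have huy : u ∈ zpowers y₀ := by
        rw [ha', hdM]; exact zpow_mem (zpow_mem (mem_zpowers y₀) _) _
      by_cases hpa : (p : ℤ) ∣ a
      · refine hu1 ?_
        rw [ha, FG38.RankTwo.zpow_congr_of_order (a := c ^ p ^ M) (by rw [← pow_mul, ← pow_succ]; exact h1)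
          (j := 0) (by simpa using hpa), zpow_zero]
      · obtain ⟨r, v, hrv⟩ : IsCoprime (p : ℤ) a := hpz.coprime_iff_not_dvd.mpr hpa
        refine hne ?_
        have h3 : c ^ p ^ M = u ^ v := by
          calc c ^ p ^ M = (c ^ p ^ M) ^ (r * (p : ℤ) + v * a) := by rw [hrv, zpow_one]
            _ = _ := by
              rw [zpow_add, mul_comm r, zpow_mul, zpow_natCast, ← pow_mul c, ← pow_succ, h1, one_zpow,
                one_mul, ha, ← zpow_mul, mul_comm v]
        exact h3 ▸ zpow_mem huy v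
    have hle := Nat.card_le_card_of_injective
      (fun q : ↥(zpowers c) × ↥(zpowers d) =>
        (⟨(q.1 : R) * (q.2 : R), mul_mem ((zpowers_le.2 hc) q.1.2) ((zpowers_le.2 hdC) q.2.2)⟩ : ↥C))
      (fun q r hqr => Subgroup.mul_injective_of_disjoint hdis (congrArg Subtype.val hqr))
    rw [Nat.card_prod, Nat.card_zpowers, Nat.card_zpowers, hco, hdo, hCcard, ← pow_add,
      Nat.pow_le_pow_iff_right hp.out.one_lt] at hle
    have hge := hF.card_kill_pow hp2 (M + 1)
    rw [FG38.RankTwo.card_eq_of_forall hMspec, hCcard, Nat.pow_le_pow_iff_right hp.out.one_lt] at hge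
    obtain ⟨m, hm⟩ := heven
    omega
  obtain ⟨c₀, hc₀, hne₀⟩ : ∃ c ∈ C, c ^ p ^ M ≠ 1 := by
    rcases Nat.eq_zero_or_pos M with h0 | hpos
    · exact ⟨y₀, hmemC y₀ (hy b), by rw [h0, pow_zero, pow_one]; exact hy1⟩
    · have h := Nat.find_min hex (show M - 1 < M by omega)
      push Not at h
      obtain ⟨c, hc, hne⟩ := h
      exact ⟨c, hc, by rwa [Nat.sub_add_cancel hpos] at hne⟩
  refine ⟨obstruction_of_pow hy C ⟨g, hsup⟩ (p ^ M) (fun u hu v hv => ?_) htop ⟨c₀, hc₀, hne₀⟩, ?_⟩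
  · exact congrArg Subtype.val (FG38.RankTwo.mul_pow_ppow hp2 hF.isPGroup hF.pcentral M (⟨u, hu⟩ : ↥C) ⟨v, hv⟩
      (FG38.RankTwo.comm_pow_eq_one hp2 hF.isPGroup hF.pcentral (Subtype.ext (hMspec v hv)) _))
  -- `C` is metacyclic with derived subgroup inside `⟨y₀⟩`
  obtain ⟨N, hN, hNc, hQc⟩ := FG38.RankTwo.isMetacyclic_of_agemo hp2 hF.isPGroup
    ((FG38.RankTwo.index_agemo_le hp2 hF.isPGroup hF.pcentral).trans hF.card_kill)
  haveI := hN
  haveI := hNc
  haveI := hQc
  obtain ⟨⟨c₁, hc₁⟩, hg₁⟩ := isCyclic_iff_exists_zpowers_eq_top.1 hNc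
  obtain ⟨qd, hg₂⟩ := isCyclic_iff_exists_zpowers_eq_top.1 hQc
  obtain ⟨d₁, rfl⟩ := QuotientGroup.mk_surjective qd
  have hgen : Subgroup.closure ({(c₁ : R), (d₁ : R)} : Set R) = C := by
    refine le_antisymm ((closure_le _).2 ?_) fun u hu => ?_
    · rintro x (rfl | hx)
      · exact c₁.2
      · exact hx ▸ d₁.2
    obtain ⟨i, hi⟩ := mem_zpowers_iff.1 (hg₂.ge (mem_top ((⟨u, hu⟩ : ↥C) : ↥C ⧸ N)))
    have hmem : (⟨u, hu⟩ : ↥C) * (d₁ ^ i)⁻¹ ∈ N := by
      rw [← QuotientGroup.eq_one_iff, QuotientGroup.mk_mul, QuotientGroup.mk_inv, QuotientGroup.mk_zpow,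
        hi, mul_inv_cancel]
    obtain ⟨j, hj⟩ := mem_zpowers_iff.1 (hg₁.ge (mem_top ⟨_, hmem⟩))
    have hj' : (c₁ : R) ^ j = u * ((d₁ : R) ^ i)⁻¹ := by
      have := congrArg (fun t : ↥N => ((t : ↥C) : R)) hj
      simpa using this
    rw [show u = (c₁ : R) ^ j * (d₁ : R) ^ i by rw [hj', inv_mul_cancel_right]]
    exact mul_mem (zpow_mem (subset_closure (by simp)) j) (zpow_mem (subset_closure (by simp)) i)
  have hDer : ∀ u ∈ C, ∀ v ∈ C, ⁅u, v⁆ ∈ zpowers y₀ := by
    set L := (commutator ↥C).map C.subtype with hL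
    haveI hLn : L.Normal := by rw [hL, map_subtype_commutator]; infer_instance
    have hle : commutator ↥C ≤ N := by
      rw [_root_.commutator_def, commutator_le]
      intro u _ v _
      rw [← QuotientGroup.eq_one_iff]
      show QuotientGroup.mk' N ⁅u, v⁆ = 1
      rw [map_commutatorElement, commutatorElement_eq_one_iff_mul_comm]
      exact PGroup.mul_comm_of_cyclic _ _
    haveI : IsCyclic ↥(commutator ↥C) := isCyclic_of_injective (Subgroup.inclusion hle)
      (Subgroup.inclusion_injective hle)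
    obtain ⟨⟨t, ht⟩, htop'⟩ := isCyclic_iff_exists_zpowers_eq_top.1
      (inferInstance : IsCyclic ↥(commutator ↥C))
    have hLt : L = zpowers (t : R) := by
      refine le_antisymm ?_ (zpowers_le.2 ⟨t, ht, rfl⟩)
      rintro _ ⟨v, hv, rfl⟩
      obtain ⟨i, hi⟩ := mem_zpowers_iff.1 (htop'.ge (mem_top ⟨v, hv⟩))
      refine mem_zpowers_iff.2 ⟨i, ?_⟩
      have := congrArg (fun z : ↥(commutator ↥C) => ((z : ↥C) : R)) hi
      simpa using this
    obtain ⟨l, hl⟩ := IsPGroup.iff_orderOf.1 hR (t : R)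
    have hl1 : l ≤ 1 := by
      by_contra h2
      set u := (t : R) ^ p ^ (l - 2) with hu
      have huo : orderOf u = p ^ 2 := by
        rw [hu, orderOf_pow' _ (pow_ne_zero _ hp.out.ne_zero), hl, Nat.gcd_eq_right (pow_dvd_pow p (by omega)),
          Nat.pow_div (by omega) hp.out.pos]
        congr 1; omega
      haveI : (zpowers u).Normal := ⟨fun v hv h => by
        obtain ⟨j, rfl⟩ := mem_zpowers_iff.1 hv
        obtain ⟨r, hr⟩ := mem_zpowers_iff.1 (hLt.le (hLn.conj_mem _ (hLt.ge (mem_zpowers (t : R))) h))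
        have : h * u * h⁻¹ = u ^ r := by
          rw [hu, ← conj_pow, ← hr, ← zpow_natCast, ← zpow_natCast, ← zpow_mul, ← zpow_mul, mul_comm]
        rw [← conj_zpow, this]
        exact zpow_mem (zpow_mem (mem_zpowers u) r) j⟩
      have hu' := huniq (zpowers u) (by rw [Nat.card_zpowers, huo])
      have h3 := hBp u (by rw [hBlcs, ← hu']; exact mem_zpowers u)
      have h4 := huo ▸ orderOf_dvd_of_pow_eq_one h3
      exact absurd (Nat.le_of_dvd hp.out.pos h4) (Nat.not_le.2 (by
        calc p = p ^ 1 := (pow_one p).symm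
          _ < p ^ 2 := Nat.pow_lt_pow_right hp.out.one_lt (by norm_num)))
    have htp : (t : R) ^ p = 1 := orderOf_dvd_iff_pow_eq_one.1 (hl ▸ by
      simpa using pow_dvd_pow p hl1)
    intro u hu v hv
    have hmem : ⁅u, v⁆ ∈ L := by
      rw [hL, map_subtype_commutator]; exact commutator_mem_commutator hu hv
    obtain ⟨i, hi⟩ := mem_zpowers_iff.1 (hLt.le hmem)
    have hLcard : Nat.card L ∣ p := by
      rw [hLt, Nat.card_zpowers]; exact orderOf_dvd_of_pow_eq_one htp
    refine hcen _ (by rw [← hi, ← zpow_natCast, ← zpow_mul, mul_comm, zpow_mul, zpow_natCast, htp, one_zpow]) ?_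
    rcases hp.out.eq_one_or_self_of_dvd _ hLcard with h1 | h1
    · intro h; have hb : L = ⊥ := card_eq_one.1 h1; rw [mem_bot.1 (hb.le hmem)]; exact Commute.one_left h
    · exact fun h => (mem_center_iff.1 (PGroup.le_center_of_card_eq_prime hR h1 hmem) h).symm
  refine noWreath_of_two_gen hrk C hidx hR hgen fun K hK hK1 u hu v hv => ?_
  haveI := hK
  obtain ⟨z, hz, hz1, hzp⟩ := PGroup.exists_mem_pow_eq_one hR (PGroup.inf_center_ne_bot hR hK1)
  have hzy : z ∈ zpowers y₀ := hcen z hzp fun h => (mem_center_iff.1 hz.2 h).symm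
  have heq : zpowers z = zpowers y₀ := by
    refine eq_of_le_of_card_ge (zpowers_le.2 hzy) ?_
    rw [Nat.card_zpowers, Nat.card_zpowers, hy0, orderOf_eq_prime hzp hz1]
  exact zpowers_le.2 hz.1 (heq.ge (hDer u hu v hv))

end Cfsg.Agent.LocalEvenD.RankTwoShape
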