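import Cfsg.Agent.LocalEvenD.RankTwoShape.Presented
import Cfsg.Agent.PLocalB.Uniserial

/-!
# Nonabelian metacyclic `p`-groups carry a transfer obstruction
-/

set_option autoImplicit false
set_option linter.style.haveILetI false

open Subgroup
open scoped commutatorElement

namespace Cfsg.Agent.LocalEvenD.RankTwoShape

variable {p : ℕ} [hp : Fact p.Prime] {R : Type*} [Group R] [Finite R]

theorem noWreath_of_metacyclic {R : Type*} [Group R] (hm : Cfsg.IsMetacyclic R) : NoWreath p R := by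
  obtain ⟨N, hN, hNc, hQc⟩ := hm
  haveI := hN
  haveI := hNc
  haveI := hQc
  rintro ⟨K, M, hKn, -, -, -, hcomm, hpow, hbig, -⟩
  haveI := hKn
  obtain ⟨c, hc⟩ := isCyclic_iff_exists_zpowers_eq_top.1
    (inferInstance : IsCyclic ↥((M ⊓ N).subgroupOf N))
  obtain ⟨⟨q, hq⟩, hd⟩ := isCyclic_iff_exists_zpowers_eq_top.1
    (inferInstance : IsCyclic ↥(M.map (QuotientGroup.mk' N)))
  obtain ⟨d, hdM, rfl⟩ := hq
  have hcM : ((c : ↥N) : R) ∈ M := (mem_subgroupOf.1 c.2).1
  have hgen : Subgroup.closure ({((c : ↥N) : R), d} : Set R) = M := by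
    refine le_antisymm ((closure_le _).2 ?_) fun m hm => ?_
    · rintro g (rfl | hg)
      · exact hcM
      · exact hg ▸ hdM
    obtain ⟨i, hi⟩ := mem_zpowers_iff.1 (hd.ge (mem_top ⟨_, mem_map_of_mem (QuotientGroup.mk' N) hm⟩))
    have hi' : QuotientGroup.mk' N d ^ i = QuotientGroup.mk' N m := congrArg Subtype.val hi
    have hmem : m * (d ^ i)⁻¹ ∈ M ⊓ N :=
      mem_inf.2 ⟨M.mul_mem hm (M.inv_mem (M.zpow_mem hdM i)), by
        rw [← QuotientGroup.eq_one_iff]
        show QuotientGroup.mk' N (m * (d ^ i)⁻¹) = 1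
        rw [map_mul, map_inv, map_zpow, hi', mul_inv_cancel]⟩
    obtain ⟨j, hj⟩ := mem_zpowers_iff.1 (hc.ge (mem_top
      (⟨⟨_, hmem.2⟩, mem_subgroupOf.2 hmem⟩ : ↥((M ⊓ N).subgroupOf N))))
    have hj' : ((c : ↥N) : R) ^ j = m * (d ^ i)⁻¹ := by
      have := congrArg (fun t : ↥((M ⊓ N).subgroupOf N) => ((t : ↥N) : R)) hj
      simpa using this
    rw [show m = ((c : ↥N) : R) ^ j * d ^ i by rw [hj', inv_mul_cancel_right]]
    exact mul_mem (zpow_mem (subset_closure (by simp)) j) (zpow_mem (subset_closure (by simp)) i)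
  exact absurd (hbig.trans (relIndex_le_of_two_gen hgen hcomm hpow))
    (Nat.not_le.2 (Nat.pow_lt_pow_right hp.out.one_lt (by norm_num)))

theorem metacyclic_obstruction (hp2 : p ≠ 2) (hR : IsPGroup p R) {y₀ : R} (hy : ∀ h : R, Commute y₀ h)
    (hy0 : orderOf y₀ = p) (hyR : y₀ ∈ commutator R) (hm : Cfsg.IsMetacyclic R) : Obstruction y₀ := by
  obtain ⟨N, hN, hNc, hQc⟩ := hm
  haveI := hN
  haveI := hQc
  obtain ⟨⟨a, haN⟩, ha⟩ := isCyclic_iff_exists_zpowers_eq_top.1 hNc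
  have hNa : zpowers a = N := by
    refine le_antisymm (zpowers_le.2 haN) fun g hg => ?_
    obtain ⟨i, hi⟩ := mem_zpowers_iff.1 (ha.ge (mem_top ⟨g, hg⟩))
    exact mem_zpowers_iff.2 ⟨i, congrArg Subtype.val hi⟩
  obtain ⟨bq, hb⟩ := isCyclic_iff_exists_zpowers_eq_top.1 hQc
  obtain ⟨b, rfl⟩ := QuotientGroup.mk_surjective bq
  have hsup : N ⊔ zpowers b = ⊤ := by
    rw [eq_top_iff]
    intro g _
    obtain ⟨i, hi⟩ := mem_zpowers_iff.1 (hb.ge (mem_top (g : R ⧸ N)))
    rw [show g = g * (b ^ i)⁻¹ * b ^ i by group]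
    refine mul_mem_sup ((QuotientGroup.eq_one_iff _).1 ?_) (zpow_mem (mem_zpowers b) i)
    rw [QuotientGroup.mk_mul, QuotientGroup.mk_inv, QuotientGroup.mk_zpow, hi, mul_inv_cancel]
  have hNab : ∀ u ∈ N, ∀ v ∈ N, Commute u v := by
    intro u hu v hv
    rw [← hNa] at hu hv
    obtain ⟨i, rfl⟩ := mem_zpowers_iff.1 hu
    obtain ⟨j, rfl⟩ := mem_zpowers_iff.1 hv
    exact (Commute.refl a).zpow_zpow i j
  have hy1 : y₀ ≠ 1 := fun h => hp.out.ne_one (by rw [← hy0, h, orderOf_one])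
  have hne : commutator R ≠ ⊥ := fun h => hy1 (mem_bot.1 (h ▸ hyR))
  have hle : commutator R ≤ ⁅N, (⊤ : Subgroup R)⁆ := by
    refine commutator_le_of_sup hsup (fun u hu v _ => commutator_mem_commutator hu (mem_top v))
      fun u hu => ?_
    rw [commutator_comm]
    exact commutator_mem_commutator (mem_top b) hu
  have hN0 : N ≠ ⊥ := fun h => hne (le_bot_iff.1 (hle.trans (by rw [h, commutator_bot_left])))
  have hlt : commutator R < N := lt_of_le_of_lt hle (PLocalB.commutator_lt_of_ne_bot N ⊤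
    (hR.to_subgroup _) (hR.to_subgroup ⊤) (by rw [normalizer_eq_top N]) hN0)
  obtain ⟨i, hi⟩ := IsPGroup.iff_orderOf.1 hR a
  obtain ⟨l, hl⟩ := IsPGroup.iff_card.1 (hR.to_subgroup (commutator R))
  have hli : l < i := by
    have h : Nat.card (commutator R) < Nat.card N :=
      lt_of_le_of_ne (card_le_of_le hlt.le) fun e => hlt.ne (eq_of_le_of_card_ge hlt.le e.ge)
    rw [hl, ← hNa, Nat.card_zpowers, hi] at h
    exact (Nat.pow_lt_pow_iff_right hp.out.one_lt).1 h
  set q := p ^ (i - l) with hq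
  have hoq : orderOf (a ^ q) = p ^ l := by
    rw [orderOf_pow' a (pow_ne_zero _ hp.out.ne_zero), hi,
      Nat.gcd_eq_right (pow_dvd_pow p (Nat.sub_le i l)), Nat.pow_div (Nat.sub_le i l) hp.out.pos]
    congr 1; omega
  set t := a ^ q with ht
  have hder : commutator R = zpowers t := by
    refine eq_of_le_of_card_ge (fun g hg => ?_) (by rw [Nat.card_zpowers, hoq, hl])
    obtain ⟨e, rfl⟩ := mem_zpowers_iff.1 (hNa.ge (hlt.le hg))
    have h : (a ^ e) ^ (p ^ l) = 1 :=
      congrArg Subtype.val (hl ▸ pow_card_eq_one' (x := (⟨a ^ e, hg⟩ : ↥(commutator R))))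
    rw [← zpow_natCast, ← zpow_mul, ← orderOf_dvd_iff_zpow_eq_one, hi,
      show i = (i - l) + l by omega, Nat.cast_pow, Nat.cast_pow, pow_add,
      mul_dvd_mul_iff_right (pow_ne_zero _ (by exact_mod_cast hp.out.ne_zero))] at h
    obtain ⟨e', rfl⟩ := h
    exact mem_zpowers_iff.2 ⟨e', by rw [ht, ← zpow_natCast, ← zpow_mul, hq, Nat.cast_pow]⟩
  set D := zpowers (t ^ p) with hD
  have htD : t ∉ D := by
    intro h
    have h1 : zpowers t ≤ D := zpowers_le.2 h
    have h2 := card_le_of_le h1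
    rw [hD, Nat.card_zpowers, Nat.card_zpowers, hoq, orderOf_pow' t hp.out.ne_zero, hoq] at h2
    have hl0 : l ≠ 0 := fun h0 => hne (card_eq_one.1 (by rw [hl, h0, pow_zero]))
    rw [Nat.gcd_eq_right (dvd_pow_self p hl0)] at h2
    exact absurd h2 (Nat.not_le.2 (Nat.div_lt_self (pow_pos hp.out.pos l) hp.out.one_lt))
  -- automorphisms fixing `y₀` fix `t` modulo `D`
  have hfix : ∀ α : MulAut R, α y₀ = y₀ → α t * t⁻¹ ∈ D := by
    intro α hα
    have hαt : α t ∈ zpowers t := by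
      rw [← hder]
      have h : (commutator R).map α.toMonoidHom = commutator R :=
        characteristic_iff_map_eq.1 inferInstance α
      rw [← h]
      exact ⟨t, hder.ge (mem_zpowers t), rfl⟩
    obtain ⟨r, hr⟩ := mem_zpowers_iff.1 hαt
    obtain ⟨m, hm⟩ := mem_zpowers_iff.1 (hder.le hyR)
    by_cases hpr : (p : ℤ) ∣ r - 1
    · obtain ⟨r', hr'⟩ := hpr
      refine mem_zpowers_iff.2 ⟨r', ?_⟩
      rw [← zpow_natCast, ← zpow_mul, ← hr', zpow_sub, zpow_one, hr]
    exfalso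
    have h : t ^ ((r - 1) * m) = 1 := by
      rw [zpow_mul, zpow_sub, zpow_one, hr, (hNab _ ?_ _ ?_).mul_zpow, inv_zpow, ← map_zpow, hm, hα,
        mul_inv_cancel]
      · exact hlt.le (hder.ge (hr ▸ zpow_mem (mem_zpowers t) r))
      · exact inv_mem (hlt.le (hder.ge (mem_zpowers t)))
    rw [← orderOf_dvd_iff_zpow_eq_one, hoq, Nat.cast_pow] at h
    have hcop : IsCoprime ((p : ℤ) ^ l) (r - 1) :=
      ((Nat.prime_iff_prime_int.mp hp.out).coprime_iff_not_dvd.mpr hpr).pow_left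
    refine hy1 ?_
    rw [← hm, ← orderOf_dvd_iff_zpow_eq_one, hoq, Nat.cast_pow]
    exact hcop.dvd_of_dvd_mul_left h
  have hconj : ∀ h : R, h * t * h⁻¹ * t⁻¹ ∈ D := fun h =>
    hfix (MulAut.conj h) (by rw [conj_apply_eq, ← (hy h).eq, mul_inv_cancel_right])
  haveI : D.Normal := ⟨fun g hg h => by
    obtain ⟨j, rfl⟩ := mem_zpowers_iff.1 hg
    obtain ⟨r', hr'⟩ := mem_zpowers_iff.1 (hconj h)
    rw [← conj_zpow, ← conj_pow,
      show h * t * h⁻¹ = (t ^ p) ^ r' * t by rw [hr', inv_mul_cancel_right]]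
    refine zpow_mem ?_ j
    rw [((Commute.refl t).pow_left p |>.zpow_left r').mul_pow, ← zpow_natCast ((t ^ p) ^ r'), ← zpow_mul]
    exact mul_mem (zpow_mem (mem_zpowers _) _) (mem_zpowers _)⟩
  let π := QuotientGroup.mk' D
  have htc : ∀ g : R ⧸ D, Commute (π t) g := by
    intro g
    obtain ⟨g, rfl⟩ := QuotientGroup.mk'_surjective D g
    refine (commutatorElement_eq_one_iff_mul_comm.1 ?_).symm
    rw [← map_commutatorElement]
    exact (QuotientGroup.eq_one_iff _).2 (by rw [commutatorElement_def]; exact hconj g)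
  have htp : π t ^ p = 1 := by
    rw [← map_pow]; exact (QuotientGroup.eq_one_iff _).2 (mem_zpowers _)
  obtain ⟨m, hm2⟩ : p ∣ q.choose 2 := dvd_choose_two_pow (hp.out.odd_of_ne_two hp2) (by omega)
  have hmul : ∀ u v : R, π (u * v) ^ q = π u ^ q * π v ^ q := by
    intro u v
    obtain ⟨e, he⟩ := mem_zpowers_iff.1 (hder.le (commutator_mem_commutator (mem_top v) (mem_top u)))
    have hcv : ∀ g, Commute ⁅π v, π u⁆ g := fun g => by
      rw [← map_commutatorElement, ← he, map_zpow]; exact (htc g).zpow_left e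
    rw [map_mul, PGroup.mul_pow_of_commute_commutator (hcv _) (hcv _), hm2, pow_mul,
      ← map_commutatorElement, ← he, map_zpow, ← zpow_natCast (π t ^ e) p, ← zpow_mul, mul_comm e,
      zpow_mul, zpow_natCast, htp, one_zpow, one_pow, mul_one]
  let φ : R →* R ⧸ D := MonoidHom.mk' (fun g => π g ^ q) hmul
  have hqp : π t ^ q = 1 := by
    rw [hq, show i - l = (i - l - 1) + 1 by omega, pow_succ', pow_mul, htp, one_pow]
  refine ⟨φ.ker, ?_, a, ?_, ?_⟩
  · rw [hder, zpowers_le, MonoidHom.mem_ker]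
    exact hqp
  · rw [MonoidHom.mem_ker]
    show ¬ π a ^ q = 1
    rw [← map_pow, ← ht]
    exact fun h => htD ((QuotientGroup.eq_one_iff _).1 h)
  · intro α hα
    rw [MonoidHom.mem_ker, map_mul, map_inv]
    show π (α a) ^ q * (π a ^ q)⁻¹ = 1
    rw [← map_pow π, ← map_pow π, ← map_inv, ← map_mul, ← map_pow α, ← ht]
    exact (QuotientGroup.eq_one_iff _).2 (hfix α hα)

end Cfsg.Agent.LocalEvenD.RankTwoShape
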