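import Cfsg.Agent.LocalEvenD.RankTwoShape.Basic

/-!
# The presented rank two `p`-groups of order at least `p ^ 4` carry a transfer obstruction
-/

set_option autoImplicit false
set_option linter.style.haveILetI false

open Subgroup
open scoped commutatorElement

namespace Cfsg.Agent.LocalEvenD.RankTwoShape

variable {p : ℕ} [hp : Fact p.Prime] {R : Type*} [Group R] [Finite R]

omit hp [Finite R] in
theorem comm_mem_closure {K : Subgroup R} [K.Normal] {x : R} {s : Set R}
    (h : ∀ a ∈ s, ⁅x, a⁆ ∈ K) : ∀ a ∈ Subgroup.closure s, ⁅x, a⁆ ∈ K := by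
  let π := QuotientGroup.mk' K
  have hiff : ∀ a, ⁅x, a⁆ ∈ K ↔ a ∈ (centralizer ({π x} : Set (R ⧸ K))).comap π := by
    intro a
    rw [mem_comap, mem_centralizer_singleton_iff, ← QuotientGroup.eq_one_iff]
    show π ⁅x, a⁆ = 1 ↔ _
    rw [map_commutatorElement, commutatorElement_eq_one_iff_mul_comm]
    exact eq_comm
  intro a ha
  exact (hiff a).2 ((closure_le _).2 (fun b hb => (hiff b).1 (h b hb)) ha)

omit hp [Finite R] in
theorem mem_closure_pair_zpow {a b c : R} (hab : Commute a b)
    (hc : c ∈ Subgroup.closure ({a, b} : Set R)) : ∃ i j : ℤ, c = a ^ i * b ^ j := by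
  induction hc using closure_induction with
  | mem x hx =>
    rcases hx with rfl | hx
    · exact ⟨1, 0, by simp⟩
    · rw [Set.mem_singleton_iff] at hx; subst hx; exact ⟨0, 1, by simp⟩
  | one => exact ⟨0, 0, by simp⟩
  | mul u v _ _ hu hv =>
    obtain ⟨i, j, rfl⟩ := hu
    obtain ⟨i', j', rfl⟩ := hv
    refine ⟨i + i', j + j', ?_⟩
    rw [zpow_add, zpow_add, mul_assoc, ← mul_assoc (b ^ j), ← (hab.zpow_zpow i' j).eq]
    simp only [mul_assoc]
  | inv u _ hu =>
    obtain ⟨i, j, rfl⟩ := hu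
    refine ⟨-i, -j, ?_⟩
    rw [mul_inv_rev, zpow_neg, zpow_neg, ((hab.zpow_zpow i j).inv_inv).eq]

theorem zpowers_eq_of_mem {y₀ w : R} (hy : orderOf y₀ = p) (hw : w ^ p = 1) (h : y₀ ∈ zpowers w) :
    zpowers y₀ = zpowers w := by
  refine eq_of_le_of_card_ge (zpowers_le.2 h) ?_
  rw [Nat.card_zpowers, Nat.card_zpowers, hy]
  exact Nat.le_of_dvd hp.out.pos (orderOf_dvd_of_pow_eq_one hw)

omit hp in
theorem dvd_choose_two_pow {p : ℕ} (hodd : Odd p) {k : ℕ} (hk : 1 ≤ k) : p ∣ (p ^ k).choose 2 := by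
  obtain ⟨m, hm⟩ := hodd.pow (n := k)
  rw [Nat.choose_two_right, Nat.mul_div_assoc _ ⟨m, by omega⟩]
  exact (dvd_pow_self p (by omega)).mul_right _

/-- The first family: a central product of an extraspecial group of exponent `p` with a cyclic group. -/
theorem familyCentral (hp2 : p ≠ 2) {y₀ : R} (hy : ∀ h : R, Commute y₀ h) (hy0 : orderOf y₀ = p)
    (hyR : y₀ ∈ commutator R) {k : ℕ} (hk : 1 ≤ k) {x y z : R}
    (hgen : Subgroup.closure ({x, y, z} : Set R) = ⊤) (hx : x ^ p = 1) (hyp : y ^ p = 1)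
    (hz : z ^ p ^ (k + 1) = 1) (hxz : x * z = z * x) (hyz : y * z = z * y)
    (hxy : x⁻¹ * y * x = y * z ^ p ^ k) : Obstruction y₀ ∧ NoWreath p R := by
  set w := z ^ p ^ k with hw
  have hwp : w ^ p = 1 := by rw [hw, ← pow_mul, ← pow_succ]; exact hz
  have hzc : ∀ h : R, Commute h z := by
    intro h
    have : h ∈ centralizer ({z} : Set R) := by
      refine (closure_le (centralizer ({z} : Set R))).2 ?_ (hgen.ge (mem_top h))
      intro g hg
      rw [SetLike.mem_coe, mem_centralizer_singleton_iff]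
      rcases hg with rfl | hg | hg
      · exact hxz
      · subst hg; exact hyz
      · rw [Set.mem_singleton_iff] at hg; subst hg; rfl
    exact mem_centralizer_singleton_iff.1 this
  have hwc : ∀ h : R, Commute h w := fun h => (hzc h).pow_right _
  haveI : (zpowers w).Normal := ⟨fun a ha h => by
    obtain ⟨i, rfl⟩ := mem_zpowers_iff.1 ha
    rw [((hwc h).zpow_right i).eq, mul_inv_cancel_right]
    exact zpow_mem (mem_zpowers w) i⟩
  have hder : commutator R ≤ zpowers w := by
    refine commutator_le_of_sup (C := Subgroup.closure ({y, z} : Set R)) (g₀ := x) ?_ ?_ ?_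
    · rw [zpowers_eq_closure, ← Subgroup.closure_union, eq_top_iff, ← hgen]
      refine closure_mono ?_
      intro g hg
      rcases hg with rfl | hg | hg <;> simp_all
    · intro a ha b hb
      obtain ⟨i, j, rfl⟩ := mem_closure_pair_zpow hyz ha
      obtain ⟨i', j', rfl⟩ := mem_closure_pair_zpow hyz hb
      rw [commutatorElement_eq_one_iff_mul_comm.2
        ((((Commute.refl y).zpow_zpow i i').mul_right ((hzc y).zpow_zpow i j')).mul_left
          (((hzc y).symm.zpow_zpow j i').mul_right ((Commute.refl z).zpow_zpow j j'))).eq]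
      exact one_mem _
    · refine comm_mem_closure ?_
      intro a ha
      rcases ha with rfl | ha
      · have h1 : a * x = x * (a * w) := by rw [← hxy]; group
        have h2 : x * a * x⁻¹ = a * w⁻¹ := by
          calc x * a * x⁻¹ = x * (a * w) * w⁻¹ * x⁻¹ := by group
            _ = a * x * w⁻¹ * x⁻¹ := by rw [h1]
            _ = _ := by rw [mul_assoc a x, ← (hwc x).inv_right.eq.symm]; group
        rw [commutatorElement_def, h2, ((hwc a).inv_right).eq, mul_inv_cancel_right]
        exact inv_mem (mem_zpowers w)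
      · rw [Set.mem_singleton_iff] at ha; subst ha
        rw [commutatorElement_eq_one_iff_mul_comm.2 hxz]; exact one_mem _
  have hcl : commutator R ≤ center R := hder.trans (zpowers_le.2 (mem_center_iff.2 fun h => (hwc h).eq))
  have heq := zpowers_eq_of_mem hy0 hwp (hder hyR)
  have hodd := hp.out.odd_of_ne_two hp2
  have hmul : ∀ a b : R, (a * b) ^ p ^ k = a ^ p ^ k * b ^ p ^ k := by
    intro a b
    obtain ⟨m, hm⟩ := dvd_choose_two_pow hodd hk
    obtain ⟨i, hi⟩ := mem_zpowers_iff.1 (hder (commutator_mem_commutator (mem_top b) (mem_top a)))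
    rw [PGroup.mul_pow_classTwo hcl, hm, pow_mul, ← hi, ← zpow_natCast (w ^ i) p, ← zpow_mul, mul_comm,
      zpow_mul, zpow_natCast, hwp, one_zpow, one_pow, mul_one]
  have hq : ∀ a : R, a ^ p = 1 → a ^ p ^ k = 1 := fun a ha =>
    orderOf_dvd_iff_pow_eq_one.1 ((orderOf_dvd_of_pow_eq_one ha).trans (dvd_pow_self p (by omega)))
  let φ : R →* R := MonoidHom.mk' (fun a => a ^ p ^ k) hmul
  have hval : ∀ c : R, c ^ p ^ k ∈ zpowers y₀ := by
    intro c
    show c ∈ (zpowers y₀).comap φ
    refine (closure_le _).2 ?_ (hgen.ge (mem_top c))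
    intro g hg
    show g ^ p ^ k ∈ zpowers y₀
    rcases hg with rfl | hg | hg
    · rw [hq g hx]; exact one_mem _
    · subst hg; rw [hq g hyp]; exact one_mem _
    · rw [Set.mem_singleton_iff] at hg; subst hg; rw [← hw, heq]; exact mem_zpowers w
  refine ⟨obstruction_of_pow hy ⊤ ⟨1, by simp⟩ _ (fun a _ b _ => hmul a b) (fun c _ => hval c)
    ⟨z, mem_top z, ?_⟩, noWreath_of_classTwo fun a b c => ?_⟩
  · rw [← hw]
    intro h1
    have h2 := congrArg (fun S : Subgroup R => Nat.card S) heq
    simp only [Nat.card_zpowers, hy0, h1, orderOf_one] at h2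
    exact hp.out.ne_one h2
  · rw [commutatorElement_eq_one_iff_mul_comm]
    exact (mem_center_iff.1 (hcl (commutator_mem_commutator (mem_top a) (mem_top b))) c).symm

/-- The second family. -/
theorem familyTwisted (hrk : Cfsg.PRankLE p 2 R) {y₀ : R} (hy : ∀ h : R, Commute y₀ h)
    (hy0 : orderOf y₀ = p) (hyR : y₀ ∈ commutator R) {k : ℕ} (hk : 1 ≤ k)
    (hcard : Nat.card R = p ^ (k + 3)) {s : ℕ} (hs : s = 1 ∨ ¬ IsSquare (s : ZMod p)) {x y z : R}
    (hgen : Subgroup.closure ({x, y, z} : Set R) = ⊤) (hx : x ^ p = 1) (hyp : y ^ p = 1)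
    (hz : z ^ p ^ (k + 1) = 1) (hyz : y * z = z * y)
    (hxy : x⁻¹ * y * x = y * z ^ (s * p ^ k)) (hxz : x⁻¹ * z * x = y * z) :
    Obstruction y₀ ∧ NoWreath p R := by
  have hR : IsPGroup p R := IsPGroup.of_card hcard
  set w := z ^ p ^ k with hw
  have hws : z ^ (s * p ^ k) = w ^ s := by rw [hw, mul_comm, pow_mul]
  rw [hws] at hxy
  have hyz' : Commute y z := hyz
  set A := Subgroup.closure ({y, z} : Set R) with hA
  have hyA : y ∈ A := subset_closure (by simp)
  have hzA : z ∈ A := subset_closure (by simp)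
  have hwA : w ∈ A := A.pow_mem hzA _
  have hAc : ∀ a ∈ A, ∀ b ∈ A, Commute a b := by
    intro a ha b hb
    obtain ⟨i, j, rfl⟩ := mem_closure_pair_zpow hyz' ha
    obtain ⟨i', j', rfl⟩ := mem_closure_pair_zpow hyz' hb
    exact ((((Commute.refl y).zpow_zpow i i').mul_right (hyz'.zpow_zpow i j')).mul_left
          ((hyz'.symm.zpow_zpow j i').mul_right ((Commute.refl z).zpow_zpow j j')))
  have hAsup : A ⊔ zpowers x = ⊤ := by
    rw [zpowers_eq_closure, hA, ← Subgroup.closure_union, eq_top_iff, ← hgen]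
    refine closure_mono ?_
    intro g hg
    rcases hg with rfl | hg | hg <;> simp_all
  -- subgroups normalised by `x⁻¹` and `A`
  have hnormal : ∀ N : Subgroup R, (∀ a ∈ A, ∀ b ∈ N, a * b * a⁻¹ ∈ N) →
      (∀ b ∈ N, x⁻¹ * b * x ∈ N) → N.Normal := by
    intro N hNA hNx
    rw [← normalizer_eq_top_iff, eq_top_iff, ← hAsup]
    have hmap : ∀ g : R, (∀ b ∈ N, g * b * g⁻¹ ∈ N) → g ∈ Subgroup.normalizer (N : Set R) := by
      intro g hg
      rw [mem_normalizer_iff]
      have heq : N.map (MulAut.conj g).toMonoidHom = N := by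
        refine eq_of_le_of_card_ge ?_ (le_of_eq (card_map_of_injective (MulAut.conj g).injective).symm)
        rintro _ ⟨b, hb, rfl⟩
        simpa using hg b hb
      intro h
      refine ⟨fun hh => hg h hh, fun hh => ?_⟩
      rw [← heq] at hh
      obtain ⟨b, hb, hb'⟩ := hh
      simp at hb'
      exact hb' ▸ hb
    refine sup_le (fun a ha => hmap a (hNA a ha)) (zpowers_le.2 ?_)
    exact inv_inv x ▸ inv_mem (hmap x⁻¹ (fun b hb => by simpa using hNx b hb))
  have hq : y ^ p ^ k = 1 :=
    orderOf_dvd_iff_pow_eq_one.1 ((orderOf_dvd_of_pow_eq_one hyp).trans (dvd_pow_self p (by omega)))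
  have hwx : x⁻¹ * w * x = w := by
    have h := conj_pow (i := p ^ k) (a := x⁻¹) (b := z)
    rw [inv_inv, hxz, hyz'.mul_pow, hq, one_mul] at h
    exact h.symm
  haveI hAn : A.Normal := by
    refine hnormal A (fun a ha b hb => A.mul_mem (A.mul_mem ha hb) (A.inv_mem ha)) ?_
    intro b hb
    have hle : A ≤ A.comap (MulAut.conj x⁻¹).toMonoidHom := by
      rw [hA, closure_le]
      intro g hg
      rw [SetLike.mem_coe, mem_comap]
      show MulAut.conj x⁻¹ g ∈ _
      rw [MulAut.conj_apply, inv_inv]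
      rcases hg with rfl | hg
      · rw [hxy]; exact mul_mem hyA (A.pow_mem hwA _)
      · rw [Set.mem_singleton_iff] at hg; subst hg; rw [hxz]; exact mul_mem hyA hzA
    simpa using hle hb
  -- orders
  have hAcard : Nat.card A ≤ p * orderOf z := by
    refine (Nat.card_le_card_of_surjective (fun ic : ↥(zpowers y) × ↥(zpowers z) =>
      (⟨(ic.1 : R) * (ic.2 : R), mul_mem ((zpowers_le.2 hyA) ic.1.2) ((zpowers_le.2 hzA) ic.2.2)⟩ : ↥A))
      ?_).trans ?_
    · rintro ⟨a, ha⟩
      obtain ⟨i, j, rfl⟩ := mem_closure_pair_zpow hyz' ha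
      exact ⟨(⟨y ^ i, zpow_mem (mem_zpowers y) i⟩, ⟨z ^ j, zpow_mem (mem_zpowers z) j⟩), rfl⟩
    · rw [Nat.card_prod, Nat.card_zpowers, Nat.card_zpowers]
      exact Nat.mul_le_mul_right _ (Nat.le_of_dvd hp.out.pos (orderOf_dvd_of_pow_eq_one hyp))
  have hRcard : p ^ (k + 3) ≤ Nat.card A * p := by
    rw [← hcard]
    refine (Nat.card_le_card_of_surjective (fun ac : ↥A × ↥(zpowers x) => (ac.1 : R) * (ac.2 : R))
      ?_).trans ?_
    · intro g
      obtain ⟨a, ha, c, hc, rfl⟩ := mem_sup_of_normal_left.1 (hAsup.ge (mem_top g))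
      exact ⟨(⟨a, ha⟩, ⟨c, hc⟩), rfl⟩
    · rw [Nat.card_prod, Nat.card_zpowers]
      exact Nat.mul_le_mul_left _ (Nat.le_of_dvd hp.out.pos (orderOf_dvd_of_pow_eq_one hx))
  have hw1 : w ≠ 1 := by
    intro h1
    have hle : orderOf z ≤ p ^ k := Nat.le_of_dvd (pow_pos hp.out.pos k) (orderOf_dvd_of_pow_eq_one h1)
    have h2 : p ^ (k + 3) ≤ p ^ (k + 2) := by
      calc p ^ (k + 3) ≤ Nat.card A * p := hRcard
        _ ≤ p * p ^ k * p := Nat.mul_le_mul_right _ (hAcard.trans (Nat.mul_le_mul_left _ hle))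
        _ = p ^ (k + 2) := by ring
    exact absurd h2 (Nat.not_le.2 (Nat.pow_lt_pow_right hp.out.one_lt (by omega)))
  have hwp : w ^ p = 1 := by rw [hw, ← pow_mul, ← pow_succ]; exact hz
  have hwo : orderOf w = p := orderOf_eq_prime hwp hw1
  have hwc : ∀ h : R, Commute w h := by
    intro h
    have : h ∈ centralizer ({w} : Set R) := by
      have hle : A ⊔ zpowers x ≤ centralizer ({w} : Set R) := by
        refine sup_le (fun a ha => mem_centralizer_singleton_iff.2 (hAc a ha w hwA).eq) (zpowers_le.2 ?_)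
        rw [mem_centralizer_singleton_iff]
        calc x * w = x * (x⁻¹ * w * x) := by rw [hwx]
          _ = w * x := by group
      exact hle (hAsup.ge (mem_top h))
    exact (mem_centralizer_singleton_iff.1 this).symm
  have hps : ¬ p ∣ s := by
    intro hd
    rcases hs with rfl | hs
    · exact hp.out.not_dvd_one hd
    · exact hs ⟨0, by rw [mul_zero, (ZMod.natCast_eq_zero_iff _ _).2 hd]⟩
  -- the derived subgroup
  have hyR' : y ∈ commutator R := by
    have : ⁅x⁻¹, z⁆ = y := by rw [commutatorElement_def, inv_inv, hxz, mul_inv_cancel_right]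
    exact this ▸ commutator_mem_commutator (mem_top _) (mem_top _)
  set D := Subgroup.closure ({y, w} : Set R) with hD
  have hDA : D ≤ A := (closure_le _).2 (by rintro g (rfl | hg); exacts [hyA, hg ▸ hwA])
  haveI hDn : D.Normal := by
    refine hnormal D (fun a ha b hb => by
      rw [(hAc a ha b (hDA hb)).eq, mul_inv_cancel_right]; exact hb) ?_
    intro b hb
    have hle : D ≤ D.comap (MulAut.conj x⁻¹).toMonoidHom := by
      rw [hD, closure_le]
      intro g hg
      rw [SetLike.mem_coe, mem_comap]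
      show MulAut.conj x⁻¹ g ∈ _
      rw [MulAut.conj_apply, inv_inv]
      rcases hg with rfl | hg
      · rw [hxy]; exact mul_mem (subset_closure (by simp)) (pow_mem (subset_closure (by simp)) _)
      · rw [Set.mem_singleton_iff] at hg; subst hg; rw [hwx]; exact subset_closure (by simp)
    simpa using hle hb
  have hder : commutator R ≤ D := by
    refine commutator_le_of_sup hAsup (fun a ha b hb => ?_) (comm_mem_closure ?_)
    · rw [commutatorElement_eq_one_iff_mul_comm.2 (hAc a ha b hb).eq]; exact one_mem _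
    · have hyD : y ∈ D := subset_closure (by simp)
      intro a ha
      rcases ha with rfl | ha
      · rw [commutatorElement_def]
        exact mul_mem (hDn.conj_mem _ hyD x) (inv_mem hyD)
      · rw [Set.mem_singleton_iff] at ha; subst ha
        have : ⁅x, a⁆ = (x * y * x⁻¹)⁻¹ := by
          rw [commutatorElement_def]
          have h1 : a = x * (y * a) * x⁻¹ := by rw [← hxz]; group
          conv_lhs => arg 2; rw [h1]
          group
        rw [this]
        exact inv_mem (hDn.conj_mem _ hyD x)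
  have hxy' : ¬ Commute x y := by
    intro h
    have h1 : y * w ^ s = y := by rw [← hxy, mul_assoc, ← h.eq, inv_mul_cancel_left]
    rw [mul_eq_left, ← orderOf_dvd_iff_pow_eq_one, hwo] at h1
    exact hps h1
  -- `C_R(R') = A`
  set C := centralizer ((commutator R : Subgroup R) : Set R) with hC
  have hAC : A ≤ C := fun a ha => mem_centralizer_iff.2 fun d hd => (hAc d (hDA (hder hd)) a ha).eq
  have hxC : x ∉ C := fun h => hxy' (mem_centralizer_iff.1 h y hyR').symm
  have hCA : A = C := by
    refine eq_of_le_of_card_ge hAC ?_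
    have h1 := FG38.RankTwo.card_mul_le_of_lt (A := C) hR
      (lt_top_iff_ne_top.2 fun h => hxC (by rw [h]; exact mem_top x))
    rw [card_top, hcard] at h1
    have h2 : p * Nat.card C ≤ p * Nat.card A := by
      rw [mul_comm p (Nat.card A)]; exact h1.trans hRcard
    exact Nat.le_of_mul_le_mul_left h2 hp.out.pos
  have hAidx : A.index = p := by
    have hlt : A < ⊤ := lt_top_iff_ne_top.2 fun h => hxC (by rw [← hCA, h]; exact mem_top x)
    have h1 := FG38.RankTwo.card_mul_le_of_lt hR hlt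
    rw [card_top, hcard] at h1
    have h2 : Nat.card A * p = p ^ (k + 3) := le_antisymm (by rw [mul_comm]; exact h1) hRcard
    have h3 := A.card_mul_index
    rw [hcard, ← h2] at h3
    exact Nat.eq_of_mul_eq_mul_left Nat.card_pos h3
  -- `⟨y₀⟩ = ⟨w⟩`
  have hy0w : y₀ ∈ zpowers w := by
    obtain ⟨i, j, hij⟩ := mem_closure_pair_zpow (hwc y).symm (hder hyR)
    by_cases hpi : (p : ℤ) ∣ i
    · rw [hij, FG38.RankTwo.zpow_congr_of_order hyp (j := 0) (by simpa using hpi), zpow_zero, one_mul]
      exact zpow_mem (mem_zpowers w) j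
    exfalso
    have hcomm : Commute x (y ^ i) := by
      have h1 : Commute x (y ^ i * w ^ j) := hij ▸ (hy x).symm
      have h2 := h1.mul_right (((hwc x).zpow_left j).symm.inv_right)
      rwa [mul_inv_cancel_right] at h2
    obtain ⟨u, v, huv⟩ : IsCoprime (p : ℤ) i :=
      (Nat.prime_iff_prime_int.mp hp.out).coprime_iff_not_dvd.mpr hpi
    refine hxy' ?_
    have : y = (y ^ i) ^ v := by
      calc y = y ^ (u * (p : ℤ) + v * i) := by rw [huv, zpow_one]
        _ = _ := by rw [zpow_add, mul_comm u, zpow_mul, zpow_natCast, hyp, one_zpow, one_mul, mul_comm,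
          zpow_mul]
    rw [this]
    exact hcomm.zpow_right v
  have heq := zpowers_eq_of_mem hy0 hwp hy0w
  refine ⟨?_, noWreath_of_two_gen hrk A hAidx hR hA.symm fun K _ _ a ha b hb => by
    rw [commutatorElement_eq_one_iff_mul_comm.2 (hAc a ha b hb).eq]; exact one_mem _⟩
  refine obstruction_of_pow hy C ⟨x, hCA ▸ hAsup⟩ (p ^ k) ?_ ?_ ⟨z, hCA ▸ hzA, hw1⟩
  · rw [← hCA]; exact fun a ha b hb => (hAc a ha b hb).mul_pow _
  · rw [← hCA, heq]
    intro c hc
    obtain ⟨i, j, rfl⟩ := mem_closure_pair_zpow hyz' hc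
    rw [(hyz'.zpow_zpow i j).mul_pow, ← zpow_natCast, ← zpow_natCast (z ^ j), ← zpow_mul, ← zpow_mul,
      mul_comm i, mul_comm j, zpow_mul, zpow_mul, zpow_natCast, zpow_natCast, hq, one_zpow, one_mul, ← hw]
    exact zpow_mem (mem_zpowers w) j

end Cfsg.Agent.LocalEvenD.RankTwoShape
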