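import Cfsg.Agent.LocalEvenD.RankTwoShape.MaxClass
import Cfsg.Agent.Fusion91.SmallEssential
import Cfsg.Agent.S3888

/-!
# Rank two `p`-groups with a central element of order `p` in the derived subgroup
-/

set_option autoImplicit false
set_option linter.style.haveILetI false

open Subgroup
open scoped commutatorElement

namespace Cfsg.Agent.LocalEvenD.RankTwoShape

variable {p : ℕ} [hp : Fact p.Prime] {R : Type*} [Group R] [Finite R]

/-- The possible shapes when there is no transfer obstruction. -/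
def Shape (p : ℕ) (R : Type*) [Group R] : Prop :=
  (Cfsg.IsExtraspecial p R ∧ Nat.card R = p ^ 3 ∧ ∀ y : R, y ^ p = 1) ∨
    (p = 3 ∧ ∃ k : ℕ, 2 ≤ k ∧ Nat.card R = 3 ^ (2 * k + 1) ∧
      ∃ _ : Group.IsNilpotent R, Group.nilpotencyClass R = 2 * k)

theorem shape_or_obstruction (hp2 : p ≠ 2) (hR : IsPGroup p R) (hrk : Cfsg.PRankLE p 2 R) {y₀ : R}
    (hy : ∀ h : R, Commute y₀ h) (hy0 : orderOf y₀ = p) (hyR : y₀ ∈ commutator R) :
    Shape p R ∨ (Obstruction y₀ ∧ NoWreath p R) := by
  obtain ⟨n, hn⟩ := IsPGroup.iff_card.1 hR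
  have hna : ¬ IsMulCommutative R := by
    intro h
    have hb : commutator R = ⊥ := by
      rw [_root_.commutator_def, eq_bot_iff, commutator_le]
      intro u _ v _
      rw [mem_bot, commutatorElement_eq_one_iff_mul_comm]
      exact h.is_comm.comm u v
    have h1 : y₀ = 1 := mem_bot.1 (hb ▸ hyR)
    rw [h1, orderOf_one] at hy0
    exact hp.out.ne_one hy0.symm
  have hn3 : 3 ≤ n := by
    by_contra hlt
    refine hna ⟨⟨fun a b => ?_⟩⟩
    obtain h | h | h : n = 0 ∨ n = 1 ∨ n = 2 := by omega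
    · subst h
      rw [pow_zero] at hn
      exact congrArg₂ (· * ·) ((Nat.card_eq_one_iff_unique.1 hn).1.elim a b)
        ((Nat.card_eq_one_iff_unique.1 hn).1.elim b a)
    · subst h
      rw [pow_one] at hn
      exact (PGroup.commute_of_card_prime hn a b).eq
    · subst h
      exact IsPGroup.commutative_of_card_eq_prime_sq hn a b
  have hmeta : Cfsg.IsMetacyclic R → Obstruction y₀ ∧ NoWreath p R := fun h =>
    ⟨metacyclic_obstruction hp2 hR hy hy0 hyR h, noWreath_of_metacyclic h⟩
  rcases hn3.eq_or_lt with hn3' | hn4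
  · subst hn3'
    by_cases hexp : ∀ g : R, g ^ p = 1
    · exact Or.inl (Or.inl ⟨Fusion91.extraspecial_of_card_cube hn hna, hn, hexp⟩)
    push Not at hexp
    obtain ⟨g, hg⟩ := hexp
    refine Or.inr (hmeta ?_)
    obtain ⟨j, hj⟩ := IsPGroup.iff_orderOf.1 hR g
    have hj2 : 2 ≤ j := by
      by_contra h
      refine hg (orderOf_dvd_iff_pow_eq_one.1 (hj ▸ ?_))
      simpa using pow_dvd_pow p (show j ≤ 1 by omega)
    have hj3 : p ^ j ∣ p ^ 3 := hj ▸ hn ▸ orderOf_dvd_natCard g
    have hj3' := (Nat.pow_dvd_pow_iff_le_right hp.out.one_lt).1 hj3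
    have hidx := (zpowers g).card_mul_index
    rw [Nat.card_zpowers, hj, hn] at hidx
    haveI : IsCyclic ↥(zpowers g) := inferInstance
    obtain h | h : j = 2 ∨ j = 3 := by omega
    · subst h
      have hi : (zpowers g).index = p :=
        Nat.eq_of_mul_eq_mul_left (pow_pos hp.out.pos 2) (hidx.trans (pow_succ p 2))
      haveI := PGroup.normal_of_index_eq_prime hR hi
      have hco := PGroup.isCoatom_of_index_prime (M := zpowers g) (hi.symm ▸ hp.out)
      obtain ⟨b, hb⟩ : ∃ b, b ∉ zpowers g := by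
        by_contra hall
        push Not at hall
        exact hco.1 ((Subgroup.eq_top_iff' _).2 hall)
      exact FG38.RankTwo.isMetacyclic_of_normal (zpowers g) b
        (hco.2 _ (lt_of_le_of_ne le_sup_left fun h => hb (h ▸ mem_sup_right (mem_zpowers b))))
    · subst h
      exact FG38.RankTwo.isMetacyclic_of_isCyclic (isCyclic_of_orderOf_eq_card g (hj.trans hn.symm))
  obtain ⟨k, rfl⟩ : ∃ k, n = k + 3 := ⟨n - 3, by omega⟩
  have hk : 1 ≤ k := by omega
  rcases S3888.result hp2 (k + 3) hn hrk with h | ⟨-, x, y, z, hgen, hx, hy', hz, hxz, hyz, hxy⟩ |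
    ⟨-, s, x, y, z, hs, hgen, hx, hy', hz, hyz, hxy, hxz⟩ | ⟨hp3, -, hlcs⟩
  · exact Or.inr (hmeta h)
  · simp only [show k + 3 - 2 = k + 1 by omega, show k + 3 - 3 = k by omega] at hz hxy
    exact Or.inr (familyCentral hp2 hy hy0 hyR hk hgen hx hy' hz hxz hyz hxy)
  · simp only [show k + 3 - 2 = k + 1 by omega, show k + 3 - 3 = k by omega] at hz hxy
    exact Or.inr (familyTwisted hrk hy hy0 hyR hk hn hs hgen hx hy' hz hyz hxy hxz)
  · rcases Nat.even_or_odd (k + 3) with he | ho
    · exact Or.inr (maxClass hp2 hrk hy hy0 hyR hn (by omega) he hlcs)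
    obtain ⟨m, hm⟩ := ho
    refine Or.inl (Or.inr ⟨hp3, m, by omega, by rw [hn, hp3, hm], hR.isNilpotent, ?_⟩)
    haveI := hR.isNilpotent
    refine le_antisymm ?_ ?_
    · refine Subgroup.lowerCentralSeries_eq_bot_iff_nilpotencyClass_le.1 ?_
      by_contra hne
      have h := PLocalB.index_lowerCentralSeries_ge hR (2 * m) (by omega) hne
      rw [← hm, ← hn] at h
      refine hne (card_eq_one.1 (le_antisymm (Nat.le_of_mul_le_mul_right ?_ (Nat.card_pos (α := R)))
        Nat.card_pos))
      rw [one_mul]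
      exact (Nat.mul_le_mul_left _ h).trans ((⊤ : Subgroup R).lowerCentralSeries (2 * m)).card_mul_index.le
    · by_contra h
      exact hlcs (Subgroup.lowerCentralSeries_eq_bot_iff_nilpotencyClass_le.2 (by omega))

end Cfsg.Agent.LocalEvenD.RankTwoShape
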